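import Cfsg.Agent.Lib.SzSolubilizer.TwoLocal
import Mathlib

/-!
The pairs of points exchanged by an involution, and the involutions of the Suzuki group.
Owner: helper50.
-/

set_option autoImplicit false
set_option linter.unusedSectionVars false
set_option linter.style.haveILetI false

namespace Cfsg.Agent.Lib.SzSolubilizer

open Cfsg.Agent.Lib.LieTwisted.Suzuki Cfsg.Agent.Lib.SzTori Cfsg.Agent.Lib.SzElements.Basic

variable {F : Type*} [Field F] [Fintype F] {m : ℕ}

local notation "Pt" => Projectivization F (Fin 4 → F)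
local notation "∞'" => (opt m (none : Option (F × F)))

/-- The elements outside the Borel subgroup lying in a pair stabiliser with `x`. -/
def Wp (x : Cfsg.Sz F m) : Set (Cfsg.Sz F m) :=
  {y | y • ∞' ≠ ∞' ∧ ∃ P R : Pt, IsPt m P ∧ IsPt m R ∧ P ≠ R ∧ x ∈ pairStab P R ∧ y ∈ pairStab P R}

variable (h : IsSzField F m) (hm : 1 ≤ m)

include h hm

section

variable {z : Cfsg.Sz F m} (hz : z ^ 2 = 1) (hz1 : z ≠ 1) (hzf : z • opt m (none : Option (F × F)) = opt m (none : Option (F × F)))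

include hz hz1 hzf

theorem z_four : z ^ 4 = 1 := by
  have hzz : z * z = 1 := by rw [← sq, hz]
  simp [pow_succ, mul_assoc, hzz]

theorem z_fix_only {P : Pt} (hP : IsPt m P) (zP : z • P = P) : P = ∞' :=
  fix_unique h hm hP ⟨none, rfl⟩ (z_four h hm hz hz1 hzf) hz1 zP hzf

/-- The points of a pair stabilised by `z` are exchanged and differ from `∞`. -/
theorem pair_swap {P R : Pt} (hP : IsPt m P) (hR : IsPt m R) (hne : P ≠ R) (hzm : z ∈ pairStab P R) :
    z • P = R ∧ z • R = P ∧ P ≠ ∞' ∧ R ≠ ∞' := by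
  rcases hzm with ⟨z1, z2⟩ | ⟨z1, z2⟩
  · exact absurd ((z_fix_only h hm hz hz1 hzf hP z1).trans (z_fix_only h hm hz hz1 hzf hR z2).symm) hne
  · refine ⟨z1, z2, fun e => hne ?_, fun e => hne ?_⟩
    · rw [← z1, e, hzf]
    · rw [← z2, e, hzf]

theorem pair_unique {P R Q : Pt} (hP : IsPt m P) (hR : IsPt m R) (hQ : IsPt m Q) (hne : P ≠ R)
    (hQne : Q ≠ z • Q) (hzm : z ∈ pairStab P R) {y : Cfsg.Sz F m} (hy : y ∈ pairStab P R)
    (hyQ : y ∈ pairStab Q (z • Q)) (hy1 : y • ∞' ≠ ∞') : Q = P ∨ Q = R := by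
  by_contra hc
  push Not at hc
  obtain ⟨hcP, hcR⟩ := hc
  obtain ⟨zP, zR, hP0, -⟩ := pair_swap h hm hz hz1 hzf hP hR hne hzm
  have hy1' : y ≠ 1 := fun e => hy1 (by rw [e, one_smul])
  have hQ' : IsPt m (z • Q) := isPt_smul h hm z hQ
  have hsq : y ^ 2 = 1 := by
    obtain ⟨s1, s2⟩ := sq_fix h hm hy
    exact eq_one_of_three h hm hP hR hQ hne (Ne.symm hcP) (Ne.symm hcR) s1 s2 (sq_fix h hm hyQ).1
  have h4 : y ^ 4 = 1 := by
    have hyy : y * y = 1 := by rw [← sq, hsq]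
    simp [pow_succ, mul_assoc, hyy]
  rcases hy with ⟨y1, y2⟩ | ⟨y1, y2⟩
  · exact hne (fix_unique h hm hP hR h4 hy1' y1 y2)
  rcases hyQ with ⟨q1, q2⟩ | ⟨q1, q2⟩
  · exact hQne (fix_unique h hm hQ hQ' h4 hy1' q1 q2)
  have hzz : z * z = 1 := by rw [← sq, hz]
  have hw : z * y = 1 := eq_one_of_three h hm hP hR hQ hne (Ne.symm hcP) (Ne.symm hcR)
    (by rw [mul_smul, y1, zR]) (by rw [mul_smul, y2, zP]) (by rw [mul_smul, q1, ← mul_smul, hzz, one_smul])
  have hyz : y = z := by rw [← one_mul y, ← hzz, mul_assoc, hw, mul_one]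
  exact hy1 (by rw [hyz, hzf])

theorem pair_fibre {P : Pt} (hP : IsPt m P) (hP0 : P ≠ ∞') :
    Nat.card {y : Cfsg.Sz F m // y • ∞' ≠ ∞' ∧ y ∈ pairStab P (z • P)} = 2 * (Fintype.card F - 2) ∧
      Nat.card {y : Cfsg.Sz F m // y • ∞' ≠ ∞' ∧ y ^ 2 = 1 ∧ y ∈ pairStab P (z • P)} =
        Fintype.card F - 2 := by
  classical
  haveI : Fintype (Cfsg.Sz F m) := Fintype.ofFinite _
  have hzz : z * z = 1 := by rw [← sq, hz]
  set R := z • P with hR'
  have hR : IsPt m R := isPt_smul h hm z hP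
  have zR : z • R = P := by rw [hR', ← mul_smul, hzz, one_smul]
  have hne : P ≠ R := fun e => hP0 (z_fix_only h hm hz hz1 hzf hP e.symm)
  have hR0 : R ≠ ∞' := fun e => hne (by rw [← zR, e, hzf])
  obtain ⟨c1, c2⟩ := card_pairStab h hm hP hR hne
  rw [Nat.card_eq_fintype_card, Fintype.card_subtype] at c1 c2
  set A : Finset (Cfsg.Sz F m) := Finset.univ.filter fun g => g • P = P ∧ g • R = R
  set B : Finset (Cfsg.Sz F m) := Finset.univ.filter fun g => g • P = R ∧ g • R = P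
  have sA : ∀ y ∈ A, y • ∞' = ∞' ↔ y = 1 := by
    intro y hy
    obtain ⟨y1, y2⟩ := (Finset.mem_filter.1 hy).2
    exact ⟨fun e => eq_one_of_three h hm hP hR ⟨none, rfl⟩ hne hP0 hR0 y1 y2 e, fun e => by rw [e, one_smul]⟩
  have sB : ∀ y ∈ B, y • ∞' = ∞' ↔ y = z := by
    intro y hy
    obtain ⟨y1, y2⟩ := (Finset.mem_filter.1 hy).2
    refine ⟨fun e => ?_, fun e => by rw [e, hzf]⟩
    have hw : z * y = 1 := eq_one_of_three h hm hP hR ⟨none, rfl⟩ hne hP0 hR0
      (by rw [mul_smul, y1, zR]) (by rw [mul_smul, y2]) (by rw [mul_smul, e, hzf])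
    rw [← one_mul y, ← hzz, mul_assoc, hw, mul_one]
  have eA : (A.filter fun y => y • ∞' ≠ ∞') = A.erase 1 := by
    ext y; simp only [Finset.mem_filter, Finset.mem_erase, ne_eq]
    exact ⟨fun ⟨a, b⟩ => ⟨fun e => b ((sA y a).2 e), a⟩, fun ⟨a, b⟩ => ⟨b, fun e => a ((sA y b).1 e)⟩⟩
  have eB : (B.filter fun y => y • ∞' ≠ ∞') = B.erase z := by
    ext y; simp only [Finset.mem_filter, Finset.mem_erase, ne_eq]
    exact ⟨fun ⟨a, b⟩ => ⟨fun e => b ((sB y a).2 e), a⟩, fun ⟨a, b⟩ => ⟨b, fun e => a ((sB y b).1 e)⟩⟩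
  have cA : (A.filter fun y => y • ∞' ≠ ∞').card = Fintype.card F - 2 := by
    rw [eA, Finset.card_erase_of_mem (by simp [A]), c1]; omega
  have cB : (B.filter fun y => y • ∞' ≠ ∞').card = Fintype.card F - 2 := by
    rw [eB, Finset.card_erase_of_mem (Finset.mem_filter.2 ⟨Finset.mem_univ _, hR'.symm, zR⟩), c2]; omega
  constructor
  · have : (Finset.univ.filter fun y => y • ∞' ≠ ∞' ∧ y ∈ pairStab P R) =
        (A.filter fun y => y • ∞' ≠ ∞') ∪ (B.filter fun y => y • ∞' ≠ ∞') := by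
      ext y; simp [A, B, mem_pairStab]; tauto
    rw [Nat.card_eq_fintype_card, Fintype.card_subtype, this, Finset.card_union_of_disjoint, cA, cB]
    · omega
    · rw [Finset.disjoint_left]
      intro y ya yb
      simp only [A, B, Finset.mem_filter, Finset.mem_univ, true_and] at ya yb
      exact hne (ya.1.1.symm.trans yb.1.1)
  · have : (Finset.univ.filter fun y => y • ∞' ≠ ∞' ∧ y ^ 2 = 1 ∧ y ∈ pairStab P R) =
        B.filter fun y => y • ∞' ≠ ∞' := by
      ext y
      simp only [B, Finset.mem_filter, Finset.mem_univ, true_and, mem_pairStab]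
      constructor
      · rintro ⟨h0, h2, ⟨y1, y2⟩ | hy⟩
        · exfalso
          have hyy : y * y = 1 := by rw [← sq, h2]
          exact hne (fix_unique h hm hP hR (by simp [pow_succ, mul_assoc, hyy])
            (fun e => h0 (by rw [e, one_smul])) y1 y2)
        · exact ⟨hy, h0⟩
      · rintro ⟨hy, h0⟩
        exact ⟨h0, sq_of_swap h hm hP hR hne hy.1 hy.2, Or.inr hy⟩
    rw [Nat.card_eq_fintype_card, Fintype.card_subtype, this, cB]

/-- Twice the number of elements of a family in the pair stabilisers of `z`. -/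
theorem two_mul_pairs (p : Cfsg.Sz F m → Prop) (k : ℕ)
    (hk : ∀ P : Pt, IsPt m P → P ≠ ∞' →
      Nat.card {y : Cfsg.Sz F m // y • ∞' ≠ ∞' ∧ p y ∧ y ∈ pairStab P (z • P)} = k) :
    2 * Nat.card {y : Cfsg.Sz F m // y ∈ Wp z ∧ p y} = Fintype.card F ^ 2 * k := by
  classical
  haveI : Fintype (Cfsg.Sz F m) := Fintype.ofFinite _
  have hzz : z * z = 1 := by rw [← sq, hz]
  let r : F × F → Cfsg.Sz F m → Prop := fun q y =>
    y • ∞' ≠ ∞' ∧ p y ∧ y ∈ pairStab (opt m (some q)) (z • opt m (some q))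
  set W : Finset (Cfsg.Sz F m) := Finset.univ.filter fun y => y ∈ Wp z ∧ p y with hWd
  have hW : Nat.card {y : Cfsg.Sz F m // y ∈ Wp z ∧ p y} = W.card := by
    rw [Nat.card_eq_fintype_card, Fintype.card_subtype]
  have h0 : ∀ q : F × F, opt m (some q) ≠ ∞' := fun q e => by simpa using opt_injective e
  have h1 : ∀ q : F × F, (W.bipartiteAbove r q).card = k := by
    intro q
    rw [← hk _ ⟨_, rfl⟩ (h0 q), Nat.card_eq_fintype_card, Fintype.card_subtype]
    congr 1
    ext y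
    simp only [Finset.mem_bipartiteAbove, hWd, Finset.mem_filter, Finset.mem_univ, true_and, r]
    refine ⟨fun hy => hy.2, fun hy => ⟨⟨⟨hy.1, opt m (some q), z • opt m (some q), ⟨_, rfl⟩,
      isPt_smul h hm z ⟨_, rfl⟩, fun e => h0 q (z_fix_only h hm hz hz1 hzf ⟨_, rfl⟩ e.symm), ?_, hy.2.2⟩, hy.2.1⟩, hy⟩⟩
    exact Or.inr ⟨rfl, by rw [← mul_smul, hzz, one_smul]⟩
  have h2 : ∀ y ∈ W, ((Finset.univ : Finset (F × F)).bipartiteBelow r y).card = 2 := by
    intro y hy
    obtain ⟨⟨hy1, P, R, hP, hR, hne, hzm, hym⟩, hpy⟩ := (Finset.mem_filter.1 hy).2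
    obtain ⟨zP, zR, hP0, hR0⟩ := pair_swap h hm hz hz1 hzf hP hR hne hzm
    obtain ⟨_ | a, rfl⟩ := hP
    · exact absurd rfl hP0
    obtain ⟨_ | b, rfl⟩ := hR
    · exact absurd rfl hR0
    have hab : a ≠ b := fun e => hne (by rw [e])
    rw [← Finset.card_pair hab]
    congr 1
    ext q
    simp only [Finset.mem_bipartiteBelow, Finset.mem_univ, true_and, Finset.mem_insert, Finset.mem_singleton, r]
    constructor
    · rintro ⟨-, -, hq⟩
      rcases pair_unique h hm hz hz1 hzf ⟨_, rfl⟩ ⟨_, rfl⟩ ⟨_, rfl⟩ hne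
        (fun e => h0 q (z_fix_only h hm hz hz1 hzf ⟨_, rfl⟩ e.symm)) hzm hym hq hy1 with e | e
      · exact Or.inl (Option.some.inj (opt_injective e))
      · exact Or.inr (Option.some.inj (opt_injective e))
    · rintro (rfl | rfl)
      · exact ⟨hy1, hpy, by rw [zP]; exact hym⟩
      · refine ⟨hy1, hpy, ?_⟩
        rw [zR]
        rw [mem_pairStab] at hym ⊢
        tauto
  have := Finset.sum_card_bipartiteAbove_eq_sum_card_bipartiteBelow r
    (s := (Finset.univ : Finset (F × F))) (t := W)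
  rw [Finset.sum_congr rfl (fun q _ => h1 q), Finset.sum_congr rfl h2, Finset.sum_const, Finset.sum_const,
    Finset.card_univ, Fintype.card_prod] at this
  simp only [smul_eq_mul] at this
  rw [hW, sq, mul_comm 2]
  exact this.symm

theorem two_mul_Wp : 2 * Nat.card (Wp z) = Fintype.card F ^ 2 * (2 * (Fintype.card F - 2)) := by
  rw [← two_mul_pairs h hm hz hz1 hzf (fun _ => True) _ (fun P hP hP0 => ?_)]
  · simp
  · rw [← (pair_fibre h hm hz hz1 hzf hP hP0).1]
    simp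

end

theorem unip_of_four {s : Cfsg.Sz F m} (h4 : s ^ 4 = 1) (hs : s • ∞' = ∞') : s ∈ unip h := by
  obtain ⟨a, b, e, rfl⟩ := h.eq_of_fix_none hm hs
  by_cases he : e = 1
  · rw [he, map_one, mul_one]; exact h.uS_mem a b
  · exfalso
    obtain ⟨c, d, hcd⟩ := borel_cases h hm (a := a) (b := b) he
    have h5 : dS h e ^ 4 = 1 := by
      have := conj_pow (a := (uS h c d)⁻¹) (b := uS h a b * dS h e) (i := 4)
      rw [inv_inv, hcd] at this
      rw [this, h4, mul_one, inv_mul_cancel]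
    exact he (h.dS_injective ((eq_one_of_coprime (dS_pow_card h hm e) h5 (card_arith h hm).1).trans (map_one _).symm))

theorem inv_stab_eq {s : Cfsg.Sz F m} (hs2 : s ^ 2 = 1) (hs : s • ∞' = ∞') : ∃ b, s = uS h 0 b := by
  have hss : s * s = 1 := by rw [← sq, hs2]
  obtain ⟨a, b, rfl⟩ := unip_of_four h hm (show s ^ 4 = 1 by simp [pow_succ, mul_assoc, hss]) hs
  exact ⟨b, by rw [Cfsg.Agent.Lib.SzElements.Basic.eq_zero_of_sq h hs2]⟩

theorem card_involutions :
    Nat.card {s : Cfsg.Sz F m // s ^ 2 = 1 ∧ s ≠ 1} = (Fintype.card F ^ 2 + 1) * (Fintype.card F - 1) := by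
  have hset : {s : Cfsg.Sz F m | s ^ 2 = 1 ∧ s ≠ 1} = conjSet (unipCenter h) := by
    ext s
    constructor
    · rintro ⟨h2, h1⟩
      have hss : s * s = 1 := by rw [← sq, h2]
      obtain ⟨p, hp⟩ := exists_fix_of_four h hm (show s ^ 4 = 1 by simp [pow_succ, mul_assoc, hss]) h1
      obtain ⟨k, hk⟩ := exists_to h hm p
      obtain ⟨b, hb⟩ := inv_stab_eq h hm (s := k⁻¹ * s * k)
        (by rw [sq]; calc k⁻¹ * s * k * (k⁻¹ * s * k) = k⁻¹ * (s * s) * k := by group
              _ = 1 := by rw [hss, mul_one, inv_mul_cancel])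
        (by rw [mul_smul, mul_smul, hk, hp, ← hk, inv_smul_smul])
      refine ⟨k, uS h 0 b, ⟨b, rfl⟩, fun e => h1 ?_, by rw [← hb]; group⟩
      rw [← hb] at e
      simpa [mul_assoc] using congrArg (fun w => k * w * k⁻¹) e
    · rintro ⟨g, _, ⟨b, rfl⟩, hb1, rfl⟩
      refine ⟨?_, fun e => hb1 (conj_eq_one_iff.1 e)⟩
      rw [conj_pow, h.uS_sq]
      simp [sg_zero, h.uS_zero]
  have hTI : ∀ g c, c ∈ unipCenter h → c ≠ 1 → g * c * g⁻¹ ∈ unipCenter h →
      g ∈ Subgroup.normalizer (unipCenter h : Set (Cfsg.Sz F m)) ∧ g • ∞' = ∞' := by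
    rintro g _ ⟨b, rfl⟩ h1 ⟨b', hg⟩
    obtain ⟨c, d, e, rfl⟩ := borel_of_conj h hm (a := 0) (b := b) (fun z => h1 (by rw [z.2, h.uS_zero]))
      (a' := 0) (b' := b') (fun z => h1 (by rw [z.2, h.uS_zero] at hg; exact conj_eq_one_iff.1 hg)) hg
    refine ⟨?_, by rw [mul_smul, h.dS_smul_none, h.uS_smul_none]⟩
    rw [Subgroup.mem_normalizer_iff]
    intro w
    constructor
    · rintro ⟨v, rfl⟩; exact ⟨_, conj_center h c d e v⟩
    · rintro ⟨v, hv⟩
      have hsc : sg m (e : F) * (e : F) ^ 2 ≠ 0 := mul_ne_zero (mt sg_eq_zero.1 e.ne_zero) (pow_ne_zero _ e.ne_zero)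
      refine ⟨v / (sg m (e : F) * (e : F) ^ 2), mul_left_cancel (mul_right_cancel (hv.trans ?_))⟩
      rw [conj_center h c d e, mul_div_cancel₀ _ hsc]
  have hN : Subgroup.normalizer (unipCenter h : Set (Cfsg.Sz F m)) = MulAction.stabilizer (Cfsg.Sz F m) ∞' := by
    refine le_antisymm (fun g hg => ?_) (fun g hg => ?_)
    · have hne : uS h (0 : F) 1 ≠ 1 := fun e => by
        rw [← h.uS_zero] at e; exact one_ne_zero (h.uS_coords_inj e).2
      exact (hTI g (uS h 0 1) ⟨1, rfl⟩ hne ((Subgroup.mem_normalizer_iff.1 hg _).1 ⟨1, rfl⟩)).2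
    · obtain ⟨c, d, e, rfl⟩ := h.eq_of_fix_none hm hg
      have hne : uS h (0 : F) 1 ≠ 1 := fun z => by
        rw [← h.uS_zero] at z; exact one_ne_zero (h.uS_coords_inj z).2
      exact (hTI _ (uS h 0 1) ⟨1, rfl⟩ hne ⟨_, conj_center h c d e 1⟩).1
  have hcount := card_conjSet (unipCenter h) (fun g c a b d => (hTI g c a b d).1)
  rw [hN, card_stab_pt h hm ⟨none, rfl⟩, h.card_group hm, ← hset] at hcount
  have hZ : Nat.card (unipCenter h) = Fintype.card F := by
    rw [← Nat.card_eq_fintype_card]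
    refine (Nat.card_eq_of_bijective (fun b : F => (⟨uS h 0 b, b, rfl⟩ : unipCenter h)) ⟨fun a b e => ?_, ?_⟩).symm
    · exact (h.uS_coords_inj (congrArg Subtype.val e)).2
    · rintro ⟨_, b, rfl⟩; exact ⟨b, rfl⟩
  rw [hZ] at hcount
  have hpos : 0 < Fintype.card F ^ 2 * (Fintype.card F - 1) :=
    Nat.mul_pos (pow_pos Fintype.card_pos 2) (by have := h.two_lt_card hm; omega)
  refine Nat.eq_of_mul_eq_mul_right hpos ((Eq.trans ?_ hcount).trans (by ring))
  rfl

/-- Twice the number of elements inverted by an involution in fixed-point-free tori. -/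
theorem two_mul_card_E {z : Cfsg.Sz F m} (hz : z ^ 2 = 1) (hz1 : z ≠ 1) (hzf : z • ∞' = ∞') :
    2 * Nat.card (E z) = Fintype.card F ^ 3 := by
  classical
  haveI : Fintype (Cfsg.Sz F m) := Fintype.ofFinite _
  have hzz : z * z = 1 := by rw [← sq, hz]
  rw [card_E_involution h hm hz hz1, Nat.card_eq_fintype_card, Fintype.card_subtype]
  have hI := card_involutions h hm
  rw [Nat.card_eq_fintype_card, Fintype.card_subtype] at hI
  have hC := two_mul_pairs h hm hz hz1 hzf (fun y => y ^ 2 = 1) _ (fun P hP hP0 => (pair_fibre h hm hz hz1 hzf hP hP0).2)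
  rw [Nat.card_eq_fintype_card, Fintype.card_subtype] at hC
  set SA : Finset (Cfsg.Sz F m) := Finset.univ.filter fun s => (s ^ 2 = 1 ∧ s ≠ 1) ∧ s • ∞' = ∞'
  set SB : Finset (Cfsg.Sz F m) := Finset.univ.filter fun s => s ^ 2 = 1 ∧ InE (z * s)
  set SC : Finset (Cfsg.Sz F m) := Finset.univ.filter fun s => s ∈ Wp z ∧ s ^ 2 = 1
  have hA : SA.card = Fintype.card F - 1 := by
    have : SA = ((Finset.univ : Finset F).erase 0).image (fun b => uS h 0 b) := by
      ext s
      simp only [SA, Finset.mem_filter, Finset.mem_univ, true_and, Finset.mem_image, Finset.mem_erase]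
      constructor
      · rintro ⟨⟨h2, h1⟩, hs⟩
        obtain ⟨b, rfl⟩ := inv_stab_eq h hm h2 hs
        exact ⟨b, ⟨fun e => h1 (by rw [e, h.uS_zero]), trivial⟩, rfl⟩
      · rintro ⟨b, ⟨hb, -⟩, rfl⟩
        refine ⟨⟨by rw [h.uS_sq]; simp [sg_zero, h.uS_zero], fun e => hb ?_⟩, h.uS_smul_none 0 b⟩
        rw [← h.uS_zero] at e
        exact (h.uS_coords_inj e).2
    rw [this, Finset.card_image_of_injective _ (fun a b e => (h.uS_coords_inj e).2),
      Finset.card_erase_of_mem (Finset.mem_univ _), Finset.card_univ]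
  have hBdis : ∀ s, InE (z * s) → s • ∞' ≠ ∞' := fun s hs e =>
    not_fix_of_inE h hm hs ⟨none, by rw [mul_smul, e, hzf]⟩
  have hunion : (Finset.univ.filter fun s : Cfsg.Sz F m => s ^ 2 = 1 ∧ s ≠ 1) = SA ∪ SB ∪ SC := by
    ext s
    simp only [SA, SB, SC, Finset.mem_filter, Finset.mem_univ, true_and, Finset.mem_union]
    constructor
    · rintro ⟨h2, h1⟩
      by_cases hs : s • ∞' = ∞'
      · exact Or.inl (Or.inl ⟨⟨h2, h1⟩, hs⟩)
      by_cases hf : HasFix (z * s)
      · obtain ⟨p, hp⟩ := hf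
        have hss : s * s = 1 := by rw [← sq, h2]
        rw [mul_smul] at hp
        have e1 : s • opt m p = z • opt m p := by
          have := congrArg (fun P => z • P) hp
          simpa only [← mul_smul, ← mul_assoc, hzz, one_mul] using this
        have hne : opt m p ≠ z • opt m p := fun e => by
          have := z_fix_only h hm hz hz1 hzf ⟨p, rfl⟩ e.symm
          rw [this, hzf] at e1
          exact hs e1
        refine Or.inr ⟨⟨hs, opt m p, z • opt m p, ⟨p, rfl⟩, isPt_smul h hm z ⟨p, rfl⟩, hne,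
          Or.inr ⟨rfl, by rw [← mul_smul, hzz, one_smul]⟩, Or.inr ⟨e1, ?_⟩⟩, h2⟩
        rw [← e1, ← mul_smul, hss, one_smul]
      · exact Or.inl (Or.inr ⟨h2, inE_of_not_fix h hm hf⟩)
    · rintro ((⟨h12, -⟩ | ⟨h2, hs⟩) | ⟨hs, h2⟩)
      · exact h12
      · exact ⟨h2, fun e => hBdis s hs (by rw [e, one_smul])⟩
      · exact ⟨h2, fun e => hs.1 (by rw [e, one_smul])⟩
  have d1 : Disjoint SA SB := by
    rw [Finset.disjoint_left]; intro s sa sb
    exact hBdis s (Finset.mem_filter.1 sb).2.2 (Finset.mem_filter.1 sa).2.2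
  have d2 : Disjoint (SA ∪ SB) SC := by
    rw [Finset.disjoint_left]; intro s sab sc
    obtain ⟨⟨hs, P, R, hP, hR, hne, hzm, hsm⟩, h2⟩ := (Finset.mem_filter.1 sc).2
    rcases Finset.mem_union.1 sab with sa | sb
    · exact hs (Finset.mem_filter.1 sa).2.2
    · have hE := (Finset.mem_filter.1 sb).2.2
      obtain ⟨p, rfl⟩ := hP
      obtain ⟨zP, zR, -, -⟩ := pair_swap h hm hz hz1 hzf ⟨p, rfl⟩ hR hne hzm
      rcases hsm with ⟨s1, s2⟩ | ⟨s1, -⟩
      · have hss : s * s = 1 := by rw [← sq, h2]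
        exact hne (fix_unique h hm ⟨p, rfl⟩ hR (show s ^ 4 = 1 by simp [pow_succ, mul_assoc, hss])
          (fun e => hs (by rw [e, one_smul])) s1 s2)
      · exact not_fix_of_inE h hm hE ⟨p, by rw [mul_smul, s1, zR]⟩
  rw [hunion, Finset.card_union_of_disjoint d2, Finset.card_union_of_disjoint d1, hA] at hI
  have hq : 2 ≤ Fintype.card F := by have := h.two_lt_card hm; omega
  show 2 * SB.card = _
  change 2 * SC.card = _ at hC
  zify [hq, (show 1 ≤ Fintype.card F by omega)] at hI hC ⊢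
  linear_combination 2 * hI - hC

end Cfsg.Agent.Lib.SzSolubilizer
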