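import Cfsg.Agent.Lib.SzSolubilizer.Points
import Mathlib

/-!
The maximal solvable subgroups of the Suzuki group.
Owner: helper50.
-/

set_option autoImplicit false
set_option linter.unusedSectionVars false
set_option linter.style.haveILetI false

namespace Cfsg.Agent.Lib.SzSolubilizer

open Cfsg.Agent.Lib.LieTwisted.Suzuki Cfsg.Agent.Lib.SzTori
open scoped commutatorElement

variable {F : Type*} [Field F] [Fintype F] {m : ℕ}

local notation "Pt" => Projectivization F (Fin 4 → F)
local notation "∞'" => (opt m (none : Option (F × F)))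
local notation "O'" => (opt m (some ((0 : F), (0 : F))))

theorem isSolvable_of_comm' {G : Type*} [Group G] (H : Subgroup G) (hc : ∀ a ∈ H, ∀ b ∈ H, a * b = b * a) :
    Group.IsSolvable H := Group.isSolvable_of_comm fun a b => Subtype.ext (hc a a.2 b b.2)

theorem isSolvable_mono {G : Type*} [Group G] {H K : Subgroup G} (hle : H ≤ K) (hK : Group.IsSolvable K) :
    Group.IsSolvable H :=
  Group.isSolvable_of_isSolvable_injective (Subgroup.inclusion_injective hle)

theorem isSolvable_of_commutator {G : Type*} [Group G] {H K : Subgroup G} (hle : ⁅H, H⁆ ≤ K)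
    (hK : Group.IsSolvable K) : Group.IsSolvable H := by
  have hmem : ∀ x : commutator H, ((x : H) : G) ∈ K := by
    rintro ⟨x, hx⟩
    refine hle ?_
    have hx' : x ∈ ⁅(⊤ : Subgroup H), ⊤⁆ := hx
    have := Subgroup.mem_map_of_mem H.subtype hx'
    rwa [Subgroup.map_commutator, ← MonoidHom.range_eq_map, Subgroup.range_subtype] at this
  let f : commutator H →* K :=
    { toFun := fun x => ⟨((x : H) : G), hmem x⟩
      map_one' := rfl
      map_mul' := fun _ _ => rfl }
  haveI : Group.IsSolvable (commutator H) := Group.isSolvable_of_isSolvable_injective (f := f) fun a b e =>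
    Subtype.ext (Subtype.ext (congrArg (fun z : K => (z : G)) e))
  refine Group.isSolvable_of_ker_le_range (commutator H).subtype (Abelianization.of (G := H)) ?_
  rw [Abelianization.ker_of, Subgroup.range_subtype]

/-- A non-trivial solvable group has a non-trivial normal commutative subgroup. -/
theorem exists_normal_comm {G : Type*} [Group G] [Group.IsSolvable G] [Nontrivial G] :
    ∃ A : Subgroup G, A.Normal ∧ A ≠ ⊥ ∧ ∀ a ∈ A, ∀ b ∈ A, a * b = b * a := by
  classical
  have hex : ∃ n, derivedSeries G n = ⊥ := Group.IsSolvable.solvable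
  have hspec := Nat.find_spec hex
  have h0 : Nat.find hex ≠ 0 := fun e => by
    rw [e, derivedSeries_zero] at hspec
    exact top_ne_bot hspec
  obtain ⟨n, hn⟩ := Nat.exists_eq_succ_of_ne_zero h0
  refine ⟨derivedSeries G n, derivedSeries_normal G n, Nat.find_min hex (by omega), fun a ha b hb => ?_⟩
  have h1 : ⁅a, b⁆ ∈ derivedSeries G (n + 1) := Subgroup.commutator_mem_commutator ha hb
  rw [show n + 1 = Nat.find hex by omega, hspec, Subgroup.mem_bot] at h1
  exact commutatorElement_eq_one_iff_mul_comm.1 h1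

variable (h : IsSzField F m) (hm : 1 ≤ m)

include h hm

theorem stab_solvable : Group.IsSolvable (MulAction.stabilizer (Cfsg.Sz F m) ∞') := by
  have hZ : Group.IsSolvable (unipCenter h) := isSolvable_of_comm' _ (by
    rintro _ ⟨b, rfl⟩ _ ⟨d, rfl⟩
    exact h.uS_center_comm b 0 d)
  exact isSolvable_of_commutator (opt_none (F := F) (m := m) ▸ h.commutator_borel_le hm)
    (isSolvable_of_commutator h.commutator_unip_le hZ)

theorem stab_pt_solvable {P : Pt} (hP : IsPt m P) : Group.IsSolvable (MulAction.stabilizer (Cfsg.Sz F m) P) := by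
  obtain ⟨p, rfl⟩ := hP
  obtain ⟨x, hx⟩ := exists_to h hm p
  haveI := stab_solvable h hm
  rw [← hx, MulAction.stabilizer_smul_eq_stabilizer_map_conj]
  exact Group.isSolvable_of_surjective
    ((MulAut.conj x).toMonoidHom.subgroupMap_surjective (MulAction.stabilizer (Cfsg.Sz F m) ∞'))

theorem pairStab_solvable {P R : Pt} (hP : IsPt m P) (hR : IsPt m R) (hne : P ≠ R) :
    Group.IsSolvable (pairStab (m := m) P R) := by
  let K : Subgroup (Cfsg.Sz F m) :=
    MulAction.stabilizer (Cfsg.Sz F m) P ⊓ MulAction.stabilizer (Cfsg.Sz F m) R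
  refine isSolvable_of_commutator (K := K) ?_ ?_
  · rw [Subgroup.commutator_le]
    intro a ha b hb
    rw [Subgroup.mem_inf, MulAction.mem_stabilizer_iff, MulAction.mem_stabilizer_iff, commutatorElement_def]
    simp only [mul_smul]
    rcases ha with ⟨a1, a2⟩ | ⟨a1, a2⟩ <;> rcases hb with ⟨b1, b2⟩ | ⟨b1, b2⟩ <;>
      simp [a1, a2, b1, b2, inv_smul_eq_iff.2 a1.symm, inv_smul_eq_iff.2 a2.symm, inv_smul_eq_iff.2 b1.symm,
        inv_smul_eq_iff.2 b2.symm]
  · obtain ⟨k, kP, kR⟩ := exists_move h hm hP hR hne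
    refine isSolvable_of_comm' _ fun a ha b hb => ?_
    have conv : ∀ g ∈ K, ∃ e, g = k * dS h e * k⁻¹ := fun g hg => by
      obtain ⟨gP, gR⟩ := hg
      simp only [SetLike.mem_coe, MulAction.mem_stabilizer_iff] at gP gR
      obtain ⟨e, he⟩ := h.eq_of_fix_two hm (g := k⁻¹ * g * k)
        (by rw [mul_smul, mul_smul, kP, gP, ← kP, inv_smul_smul])
        (by rw [mul_smul, mul_smul, kR, gR, ← kR, inv_smul_smul])
      exact ⟨e, by rw [← he]; group⟩
    obtain ⟨e, rfl⟩ := conv a ha
    obtain ⟨f, rfl⟩ := conv b hb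
    rw [show k * dS h e * k⁻¹ * (k * dS h f * k⁻¹) = k * (dS h e * dS h f) * k⁻¹ by group,
      show k * dS h f * k⁻¹ * (k * dS h e * k⁻¹) = k * (dS h f * dS h e) * k⁻¹ by group,
      ← map_mul, ← map_mul, mul_comm e f]

/-- The normaliser of a fixed-point-free torus. -/
theorem card_normalizer {g : Cfsg.Sz F m} (hg : InE g) :
    Nat.card (Subgroup.normalizer (cen g : Set (Cfsg.Sz F m))) = 4 * Nat.card (cen g) := by
  obtain ⟨-, -, -, -, -, -, -, hN⟩ := two_classes h hm
  exact hN g hg

theorem normalizer_solvable {g : Cfsg.Sz F m} (hg : InE g) :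
    Group.IsSolvable (Subgroup.normalizer (cen g : Set (Cfsg.Sz F m))) := by
  set N := Subgroup.normalizer (cen g : Set (Cfsg.Sz F m)) with hN
  refine isSolvable_of_commutator (K := cen g) ?_ ?_
  · haveI : Fact (Nat.Prime 2) := ⟨Nat.prime_two⟩
    haveI : ((cen g).subgroupOf N).Normal := Subgroup.normal_in_normalizer
    have hq : Nat.card (N ⧸ (cen g).subgroupOf N) = 2 ^ 2 := by
      have h1 := Subgroup.card_eq_card_quotient_mul_card_subgroup ((cen g).subgroupOf N)
      rw [Nat.card_congr (Subgroup.subgroupOfEquivOfLe (Subgroup.le_normalizer : cen g ≤ N)).toEquiv,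
        card_normalizer h hm hg] at h1
      exact (Nat.eq_of_mul_eq_mul_right Nat.card_pos h1).symm
    rw [Subgroup.commutator_le]
    intro a ha b hb
    have := IsPGroup.commutative_of_card_eq_prime_sq hq (QuotientGroup.mk' _ ⟨a, ha⟩) (QuotientGroup.mk' _ ⟨b, hb⟩)
    rw [← commutatorElement_eq_one_iff_mul_comm, ← map_commutatorElement, ← MonoidHom.mem_ker,
      QuotientGroup.ker_mk', Subgroup.mem_subgroupOf] at this
    exact this
  · exact isSolvable_of_comm' _ fun a ha b hb => comm_of_cyclic (torus_cyclic h hm hg) ha hb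

/-- Every non-trivial solvable subgroup fixes a point, or a pair of points, or normalises a torus. -/
theorem classify (H : Subgroup (Cfsg.Sz F m)) (hs : Group.IsSolvable H) {x : Cfsg.Sz F m} (hx : x ∈ H)
    (hx1 : x ≠ 1) :
    (∃ P : Pt, IsPt m P ∧ ∀ t ∈ H, t • P = P) ∨
      (∃ P R : Pt, IsPt m P ∧ IsPt m R ∧ P ≠ R ∧ ∀ t ∈ H, t ∈ pairStab P R) ∨
      (∃ g : Cfsg.Sz F m, InE g ∧ ∀ t ∈ H, t ∈ Subgroup.normalizer (cen g : Set (Cfsg.Sz F m))) := by
  haveI : Nontrivial H := ⟨⟨⟨x, hx⟩, 1, fun e => hx1 (congrArg Subtype.val e)⟩⟩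
  obtain ⟨A, hAn, hA0, hAc⟩ := exists_normal_comm (G := H)
  obtain ⟨⟨⟨a, haH⟩, haA⟩, ha⟩ := Subgroup.ne_bot_iff_exists_ne_one.1 hA0
  have ha1 : a ≠ 1 := fun e => ha (Subtype.ext (Subtype.ext e))
  have hcom : ∀ t ∈ H, t⁻¹ * a * t * a = a * (t⁻¹ * a * t) := fun t ht => by
    have h1 := hAn.conj_mem _ haA ⟨t, ht⟩⁻¹
    have h2 := hAc _ h1 _ haA
    have h3 := congrArg Subtype.val h2
    simp only [Subgroup.coe_mul, InvMemClass.coe_inv, inv_inv] at h3
    exact h3
  by_cases hf : HasFix a
  · obtain ⟨p, hp⟩ := hf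
    by_cases h2 : ∃ R : Pt, IsPt m R ∧ R ≠ opt m p ∧ a • R = R
    · obtain ⟨R, hR, hRne, aR⟩ := h2
      refine Or.inr (Or.inl ⟨opt m p, R, ⟨p, rfl⟩, hR, hRne.symm, fun t ht => ?_⟩)
      have hfix : ∀ Q : Pt, IsPt m Q → a • Q = Q → Q = opt m p ∨ Q = R := fun Q hQ aQ => by
        by_contra hc
        push Not at hc
        exact ha1 (eq_one_of_three h hm ⟨p, rfl⟩ hR hQ hRne.symm (Ne.symm hc.1) (Ne.symm hc.2) hp aR aQ)
      -- the conjugate of `a` commutes with `a`, hence fixes both points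
      set b := t⁻¹ * a * t with hb
      have hb2 : b • opt m p = opt m p ∧ b • R = R := by
        obtain ⟨k, kP, kR⟩ := exists_move h hm ⟨p, rfl⟩ hR hRne.symm
        obtain ⟨e, he⟩ := h.eq_of_fix_two hm (g := k⁻¹ * a * k)
          (by rw [mul_smul, mul_smul, kP, hp, ← kP, inv_smul_smul])
          (by rw [mul_smul, mul_smul, kR, aR, ← kR, inv_smul_smul])
        have he1 : e ≠ 1 := fun z => ha1 (by
          rw [z, map_one] at he
          simpa [mul_assoc] using congrArg (fun w => k * w * k⁻¹) he)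
        have hmem : k⁻¹ * b * k ∈ Subgroup.centralizer ({dS h e} : Set (Cfsg.Sz F m)) := by
          rw [mem_centralizer_iff', ← he]
          calc k⁻¹ * a * k * (k⁻¹ * b * k) = k⁻¹ * (a * b) * k := by group
            _ = k⁻¹ * (b * a) * k := by rw [hcom t ht]
            _ = k⁻¹ * b * k * (k⁻¹ * a * k) := by group
        rw [centralizer_dS h hm he1] at hmem
        obtain ⟨f, hf⟩ := hmem
        have hb' : b = k * dS h f * k⁻¹ := by rw [hf]; group
        rw [hb', ← kP, ← kR]
        simp [mul_smul, h.dS_smul_none, h.dS_smul_zero]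
      have hat : ∀ Q : Pt, b • Q = Q → a • (t • Q) = t • Q := fun Q hQ => by
        rw [← inv_smul_eq_iff, ← mul_smul, ← mul_smul]
        exact hQ
      have hinj : t • opt m p ≠ t • R := fun z => hRne ((MulAction.injective t z).symm)
      rw [mem_pairStab]
      rcases hfix _ (isPt_smul h hm t ⟨p, rfl⟩) (hat _ hb2.1) with e1 | e1 <;>
        rcases hfix _ (isPt_smul h hm t hR) (hat _ hb2.2) with e2 | e2
      · exact absurd (e1.trans e2.symm) hinj
      · exact Or.inl ⟨e1, e2⟩
      · exact Or.inr ⟨e1, e2⟩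
      · exact absurd (e1.trans e2.symm) hinj
    · push Not at h2
      refine Or.inl ⟨opt m p, ⟨p, rfl⟩, fun t ht => ?_⟩
      have hu : ∀ Q : Pt, IsPt m Q → a • Q = Q → Q = opt m p := fun Q hQ aQ => by
        by_contra hc
        exact h2 Q hQ hc aQ
      have hb : (t⁻¹ * a * t) • opt m p = opt m p := by
        refine hu _ (isPt_smul h hm _ ⟨p, rfl⟩) ?_
        rw [← mul_smul, ← hcom t ht, mul_smul, hp]
      refine hu _ (isPt_smul h hm t ⟨p, rfl⟩) ?_
      rw [mul_smul, mul_smul, inv_smul_eq_iff] at hb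
      exact hb
  · have hE := inE_of_not_fix h hm hf
    refine Or.inr (Or.inr ⟨a, hE, fun t ht => ?_⟩)
    have ha' : a ∈ cen a := mem_centralizer_iff'.2 rfl
    have := ti_of_centralizer (cen a) (fun c hc hc1 => torus_eq h hm hE hc hc1) t⁻¹ a ha' ha1 (by
      rw [inv_inv]; exact mem_centralizer_iff'.2 (hcom t ht).symm)
    exact inv_mem_iff.1 this

end Cfsg.Agent.Lib.SzSolubilizer
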