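import Cfsg.Agent.Lib.SzSolubilizer.Solvable
import Mathlib

/-!
Solubilizers in the Suzuki group: the general criterion and the elements of odd order.
Owner: helper50.
-/

set_option autoImplicit false
set_option linter.unusedSectionVars false
set_option linter.style.haveILetI false

namespace Cfsg.Agent.Lib.SzSolubilizer

open Cfsg.Agent.Lib.LieTwisted.Suzuki Cfsg.Agent.Lib.SzTori

variable {F : Type*} [Field F] [Fintype F] {m : ℕ}

local notation "Pt" => Projectivization F (Fin 4 → F)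
local notation "∞'" => (opt m (none : Option (F × F)))
local notation "O'" => (opt m (some ((0 : F), (0 : F))))

/-- The solubilizer. -/
def sol {G : Type*} [Group G] (x : G) : Set G :=
  {y | Group.IsSolvable (Subgroup.closure ({x, y} : Set G))}

theorem card_sol_equiv {G H : Type*} [Group G] [Group H] (e : G ≃* H) (x : G) :
    Nat.card (sol (e x)) = Nat.card (sol x) := by
  refine (Nat.card_congr (e.toEquiv.subtypeEquiv fun y => ?_)).symm
  have hmap : (Subgroup.closure ({x, y} : Set G)).map e.toMonoidHom = Subgroup.closure ({e x, e y} : Set H) := by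
    rw [MonoidHom.map_closure, Set.image_pair]; rfl
  show Group.IsSolvable _ ↔ Group.IsSolvable (Subgroup.closure ({e x, e y} : Set H))
  rw [← hmap]
  let φ := (Subgroup.closure ({x, y} : Set G)).equivMapOfInjective e.toMonoidHom e.injective
  exact ⟨fun _ => Group.isSolvable_of_surjective (f := φ.toMonoidHom) φ.surjective,
    fun _ => Group.isSolvable_of_surjective (f := φ.symm.toMonoidHom) φ.symm.surjective⟩

theorem closure_le_pair {G : Type*} [Group G] {x y : G} {K : Subgroup G} (hx : x ∈ K) (hy : y ∈ K) :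
    Subgroup.closure ({x, y} : Set G) ≤ K :=
  (Subgroup.closure_le _).2 (Set.insert_subset_iff.2 ⟨hx, Set.singleton_subset_iff.2 hy⟩)

variable (h : IsSzField F m) (hm : 1 ≤ m)

include h hm

theorem mem_sol_iff {x : Cfsg.Sz F m} (hx1 : x ≠ 1) (y : Cfsg.Sz F m) :
    y ∈ sol x ↔ (∃ P : Pt, IsPt m P ∧ x • P = P ∧ y • P = P) ∨
      (∃ P R : Pt, IsPt m P ∧ IsPt m R ∧ P ≠ R ∧ x ∈ pairStab P R ∧ y ∈ pairStab P R) ∨
      (∃ g : Cfsg.Sz F m, InE g ∧ x ∈ Subgroup.normalizer (cen g : Set (Cfsg.Sz F m)) ∧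
        y ∈ Subgroup.normalizer (cen g : Set (Cfsg.Sz F m))) := by
  have hxc : x ∈ Subgroup.closure ({x, y} : Set (Cfsg.Sz F m)) := Subgroup.subset_closure (by simp)
  have hyc : y ∈ Subgroup.closure ({x, y} : Set (Cfsg.Sz F m)) := Subgroup.subset_closure (by simp)
  constructor
  · intro hy
    rcases classify h hm _ hy hxc hx1 with ⟨P, hP, hH⟩ | ⟨P, R, hP, hR, hne, hH⟩ | ⟨g, hg, hH⟩
    · exact Or.inl ⟨P, hP, hH x hxc, hH y hyc⟩
    · exact Or.inr (Or.inl ⟨P, R, hP, hR, hne, hH x hxc, hH y hyc⟩)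
    · exact Or.inr (Or.inr ⟨g, hg, hH x hxc, hH y hyc⟩)
  · rintro (⟨P, hP, xP, yP⟩ | ⟨P, R, hP, hR, hne, xm, ym⟩ | ⟨g, hg, xm, ym⟩)
    · exact isSolvable_mono (closure_le_pair xP yP) (stab_pt_solvable h hm hP)
    · exact isSolvable_mono (closure_le_pair xm ym) (pairStab_solvable h hm hP hR hne)
    · exact isSolvable_mono (closure_le_pair xm ym) (normalizer_solvable h hm hg)

theorem card_stab_pt {P : Pt} (hP : IsPt m P) :
    Nat.card (MulAction.stabilizer (Cfsg.Sz F m) P) = Fintype.card F ^ 2 * (Fintype.card F - 1) := by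
  obtain ⟨p, rfl⟩ := hP
  obtain ⟨x, hx⟩ := exists_to h hm p
  rw [← hx, MulAction.stabilizer_smul_eq_stabilizer_map_conj,
    Subgroup.card_map_of_injective (MulAut.conj x).injective, opt_none, h.card_stabilizer hm]

theorem pow_four_mem_cen {g w : Cfsg.Sz F m} (hg : InE g)
    (hw : w ∈ Subgroup.normalizer (cen g : Set (Cfsg.Sz F m))) : w ^ 4 ∈ cen g := by
  set N := Subgroup.normalizer (cen g : Set (Cfsg.Sz F m)) with hN
  haveI : ((cen g).subgroupOf N).Normal := Subgroup.normal_in_normalizer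
  have h1 := ((cen g).subgroupOf N).card_mul_index
  rw [Nat.card_congr (Subgroup.subgroupOfEquivOfLe (Subgroup.le_normalizer : cen g ≤ N)).toEquiv,
    card_normalizer h hm hg, mul_comm 4] at h1
  have h4 : ((cen g).subgroupOf N).index = 4 := Nat.eq_of_mul_eq_mul_left Nat.card_pos h1
  have h2 := Subgroup.pow_index_mem ((cen g).subgroupOf N) ⟨w, hw⟩
  rw [h4] at h2
  exact h2

theorem pow_normalizer {g w : Cfsg.Sz F m} (hg : InE g)
    (hw : w ∈ Subgroup.normalizer (cen g : Set (Cfsg.Sz F m))) :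
    w ^ (4 * (Fintype.card F ^ 2 + 1)) = 1 := by
  rw [pow_mul]
  refine orderOf_dvd_iff_pow_eq_one.1 (dvd_trans ?_ (torus_card_dvd h hm hg))
  exact Subgroup.orderOf_dvd_natCard _ (pow_four_mem_cen h hm hg hw)

theorem eq_one_of_split_normalizer {g w : Cfsg.Sz F m} (hg : InE g)
    (hw : w ∈ Subgroup.normalizer (cen g : Set (Cfsg.Sz F m))) (hq : w ^ (Fintype.card F - 1) = 1) : w = 1 := by
  obtain ⟨a1, -, a3⟩ := card_arith h hm
  exact eq_one_of_coprime hq (pow_normalizer h hm hg hw) (Nat.Coprime.mul_right a1 a3)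

theorem card_sol_split {x : Cfsg.Sz F m} (hx1 : x ≠ 1) (hxq : x ^ (Fintype.card F - 1) = 1) :
    Nat.card (sol x) = 2 * Fintype.card F ^ 2 * (Fintype.card F - 1) := by
  classical
  haveI : Fintype (Cfsg.Sz F m) := Fintype.ofFinite _
  obtain ⟨a1, a2, a3⟩ := card_arith h hm
  have hf : HasFix x := by
    by_contra hf
    exact hx1 (eq_one_of_coprime hxq (inE_of_not_fix h hm hf).2 a3)
  obtain ⟨k, hk | ⟨e, he, hk⟩⟩ := fix_cases h hm hf
  · exfalso
    apply hx1
    refine eq_one_of_coprime hxq ?_ a1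
    have h4 := pow_four_of_mem h hm hk
    have := conj_pow (a := k⁻¹) (b := x) (i := 4)
    rw [inv_inv] at this
    rw [this] at h4
    simpa [mul_assoc] using congrArg (fun w => k * w * k⁻¹) h4
  set P := k • ∞' with hPdef
  set R := k • O' with hRdef
  have hP : IsPt m P := isPt_smul h hm k ⟨_, rfl⟩
  have hR : IsPt m R := isPt_smul h hm k ⟨_, rfl⟩
  have hne : P ≠ R := fun z => absurd (opt_injective (MulAction.injective k z)) (by simp)
  have hx : x = k * dS h e * k⁻¹ := by rw [← hk]; group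
  have xP : x • P = P := by rw [hx, hPdef, mul_smul, mul_smul, inv_smul_smul, h.dS_smul_none]
  have xR : x • R = R := by rw [hx, hRdef, mul_smul, mul_smul, inv_smul_smul, h.dS_smul_zero]
  have hx2 : x ^ 2 ≠ 1 := fun z => hx1 (eq_one_of_coprime hxq
    (show x ^ 4 = 1 by simp [pow_succ, mul_assoc, ← sq, z]) a1)
  have hfix : ∀ Q : Pt, IsPt m Q → x ^ 2 • Q = Q → Q = P ∨ Q = R := fun Q hQ h2 => by
    by_contra hc
    push Not at hc
    exact hx2 (eq_one_of_three h hm hP hR hQ hne (Ne.symm hc.1) (Ne.symm hc.2)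
      (by rw [sq, mul_smul, xP, xP]) (by rw [sq, mul_smul, xR, xR]) h2)
  set SP : Finset (Cfsg.Sz F m) := Finset.univ.filter fun y => y • P = P
  set SR : Finset (Cfsg.Sz F m) := Finset.univ.filter fun y => y • R = R
  set SW : Finset (Cfsg.Sz F m) := Finset.univ.filter fun y => y • P = R ∧ y • R = P
  have hset : sol x = ↑(SP ∪ SR ∪ SW) := by
    ext y
    rw [mem_sol_iff h hm hx1]
    simp only [SP, SR, SW, Finset.coe_union, Finset.coe_filter, Finset.mem_univ, true_and, Set.mem_union,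
      Set.mem_setOf_eq]
    constructor
    · rintro (⟨Q, hQ, xQ, yQ⟩ | ⟨Q, Q', hQ, hQ', hQne, xm, ym⟩ | ⟨g, hg, xm, -⟩)
      · rcases hfix Q hQ (by rw [sq, mul_smul, xQ, xQ]) with rfl | rfl
        · exact Or.inl (Or.inl yQ)
        · exact Or.inl (Or.inr yQ)
      · obtain ⟨s1, s2⟩ := sq_fix h hm xm
        rcases hfix Q hQ s1 with rfl | rfl <;> rcases hfix Q' hQ' s2 with rfl | rfl
        · exact absurd rfl hQne
        · rcases ym with ⟨y1, -⟩ | ⟨y1, y2⟩
          · exact Or.inl (Or.inl y1)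
          · exact Or.inr ⟨y1, y2⟩
        · rcases ym with ⟨y1, -⟩ | ⟨y1, y2⟩
          · exact Or.inl (Or.inr y1)
          · exact Or.inr ⟨y2, y1⟩
        · exact absurd rfl hQne
      · exact absurd (eq_one_of_split_normalizer h hm hg xm hxq) hx1
    · rintro ((y1 | y1) | y1)
      · exact Or.inl ⟨P, hP, xP, y1⟩
      · exact Or.inl ⟨R, hR, xR, y1⟩
      · exact Or.inr (Or.inl ⟨P, R, hP, hR, hne, Or.inl ⟨xP, xR⟩, Or.inr y1⟩)
  rw [hset, Nat.card_coe_set_eq, Set.ncard_coe_finset]
  have hd : Disjoint (SP ∪ SR) SW := by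
    rw [Finset.disjoint_left]
    intro y hy hw
    simp only [SP, SR, SW, Finset.mem_union, Finset.mem_filter, Finset.mem_univ, true_and] at hy hw
    rcases hy with y1 | y1
    · exact hne (y1.symm.trans hw.1)
    · exact hne (hw.2.symm.trans y1)
  have c1 : SP.card = Fintype.card F ^ 2 * (Fintype.card F - 1) := by
    rw [← card_stab_pt h hm hP, Nat.card_eq_fintype_card, ← Fintype.card_coe]
    exact Fintype.card_congr (Equiv.subtypeEquivRight (fun y => by simp [SP]))
  have c2 : SR.card = Fintype.card F ^ 2 * (Fintype.card F - 1) := by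
    rw [← card_stab_pt h hm hR, Nat.card_eq_fintype_card, ← Fintype.card_coe]
    exact Fintype.card_congr (Equiv.subtypeEquivRight (fun y => by simp [SR]))
  have c3 : (SP ∩ SR).card = Fintype.card F - 1 := by
    rw [← (card_pairStab h hm hP hR hne).1, Nat.card_eq_fintype_card, Fintype.card_subtype]
    congr 1; ext y; simp [SP, SR]
  have c4 : SW.card = Fintype.card F - 1 := by
    rw [← (card_pairStab h hm hP hR hne).2, Nat.card_eq_fintype_card, Fintype.card_subtype]
  have := Finset.card_union_add_card_inter SP SR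
  rw [Finset.card_union_of_disjoint hd, c4, Nat.mul_assoc]
  omega

theorem card_sol_inE {x : Cfsg.Sz F m} (hx : InE x) : Nat.card (sol x) = 4 * Nat.card (cen x) := by
  have hset : sol x = (Subgroup.normalizer (cen x : Set (Cfsg.Sz F m)) : Set (Cfsg.Sz F m)) := by
    ext y
    rw [mem_sol_iff h hm hx.1]
    obtain ⟨-, a2, -⟩ := card_arith h hm
    constructor
    · rintro (⟨P, hP, xP, -⟩ | ⟨P, R, hP, -, -, xm, -⟩ | ⟨g, hg, xm, ym⟩)
      · obtain ⟨p, rfl⟩ := hP
        exact absurd ⟨p, xP⟩ (not_fix_of_inE h hm hx)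
      · have hx2 : InE (x ^ 2) := ⟨fun z => hx.1 (eq_one_of_coprime hx.2
          (show x ^ 4 = 1 by simp [pow_succ, mul_assoc, ← sq, z]) a2),
          by rw [← pow_mul, mul_comm, pow_mul, hx.2, one_pow]⟩
        obtain ⟨p, rfl⟩ := hP
        exact absurd ⟨p, (sq_fix h hm xm).1⟩ (not_fix_of_inE h hm hx2)
      · have h4 := pow_four_mem_cen h hm hg xm
        have h41 : x ^ 4 ≠ 1 := fun z => hx.1 (eq_one_of_coprime hx.2 z a2)
        have hxg : x ∈ cen g := by
          rw [cen, ← torus_eq h hm hg h4 h41, mem_centralizer_iff']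
          exact (Commute.pow_self x 4).eq
        rw [show cen x = cen g from torus_eq h hm hg hxg hx.1]
        exact ym
    · intro hy
      exact Or.inr (Or.inr ⟨x, hx, Subgroup.le_normalizer (mem_centralizer_iff'.2 rfl), hy⟩)
  rw [hset, ← card_normalizer h hm hx]
  rfl

end Cfsg.Agent.Lib.SzSolubilizer
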