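import Cfsg.Agent.Lib.SzTori.Count
import Mathlib

/-!
Point stabilisers, pair stabilisers and elements of exponent four in the Suzuki group.
Owner: helper50.
-/

set_option autoImplicit false
set_option linter.unusedSectionVars false

namespace Cfsg.Agent.Lib.SzSolubilizer

open Cfsg.Agent.Lib.LieTwisted.Suzuki Cfsg.Agent.Lib.SzTori

variable {F : Type*} [Field F] [Fintype F] {m : ℕ}

local notation "Pt" => Projectivization F (Fin 4 → F)
local notation "∞'" => (opt m (none : Option (F × F)))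
local notation "O'" => (opt m (some ((0 : F), (0 : F))))

/-- A point of the ovoid. -/
def IsPt (m : ℕ) (P : Projectivization F (Fin 4 → F)) : Prop := ∃ p, P = opt m p

/-- The elements fixing or exchanging two points. -/
def pairStab (P R : Pt) : Subgroup (Cfsg.Sz F m) where
  carrier := {g | (g • P = P ∧ g • R = R) ∨ (g • P = R ∧ g • R = P)}
  one_mem' := Or.inl ⟨one_smul _ _, one_smul _ _⟩
  mul_mem' := by
    rintro a b (⟨a1, a2⟩ | ⟨a1, a2⟩) (⟨b1, b2⟩ | ⟨b1, b2⟩)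
    · exact Or.inl ⟨by rw [mul_smul, b1, a1], by rw [mul_smul, b2, a2]⟩
    · exact Or.inr ⟨by rw [mul_smul, b1, a2], by rw [mul_smul, b2, a1]⟩
    · exact Or.inr ⟨by rw [mul_smul, b1, a1], by rw [mul_smul, b2, a2]⟩
    · exact Or.inl ⟨by rw [mul_smul, b1, a2], by rw [mul_smul, b2, a1]⟩
  inv_mem' := by
    rintro a (⟨a1, a2⟩ | ⟨a1, a2⟩)
    · exact Or.inl ⟨inv_smul_eq_iff.2 a1.symm, inv_smul_eq_iff.2 a2.symm⟩
    · exact Or.inr ⟨inv_smul_eq_iff.2 a2.symm, inv_smul_eq_iff.2 a1.symm⟩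

theorem mem_pairStab {P R : Pt} {g : Cfsg.Sz F m} :
    g ∈ pairStab P R ↔ (g • P = P ∧ g • R = R) ∨ (g • P = R ∧ g • R = P) := Iff.rfl

theorem mem_pairStab_conj {P R P' R' : Pt} {k g : Cfsg.Sz F m} (hP : k • P = P') (hR : k • R = R') :
    g ∈ pairStab P' R' ↔ k⁻¹ * g * k ∈ pairStab P R := by
  subst hP hR
  simp only [mem_pairStab, mul_smul, inv_smul_eq_iff]

theorem eq_one_of_coprime {G : Type*} [Group G] {y : G} {a b : ℕ} (ha : y ^ a = 1) (hb : y ^ b = 1)
    (h : a.Coprime b) : y = 1 :=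
  orderOf_eq_one_iff.1 (Nat.eq_one_of_dvd_coprimes h (orderOf_dvd_of_pow_eq_one ha) (orderOf_dvd_of_pow_eq_one hb))

variable (h : IsSzField F m) (hm : 1 ≤ m)

include h hm

theorem card_arith :
    (Fintype.card F - 1).Coprime 4 ∧ (Fintype.card F ^ 2 + 1).Coprime 4 ∧
      (Fintype.card F - 1).Coprime (Fintype.card F ^ 2 + 1) := by
  have h2 := (card_facts h hm)
  have h3 : Odd (Fintype.card F - 1) := by
    obtain ⟨k, hk⟩ := h2.2; exact ⟨k - 1, by omega⟩
  have h4 : Odd (Fintype.card F ^ 2 + 1) := by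
    obtain ⟨k, hk⟩ := h2.2
    exact ⟨2 * k ^ 2, by rw [hk]; ring⟩
  refine ⟨(Nat.coprime_two_right.2 h3).pow_right 2, (Nat.coprime_two_right.2 h4).pow_right 2, ?_⟩
  exact ((coprime_card h hm).coprime_mul_left_right).symm

theorem isPt_smul {P : Pt} (g : Cfsg.Sz F m) (hP : IsPt m P) : IsPt m (g • P) := by
  obtain ⟨p, rfl⟩ := hP
  exact exists_opt h hm g p

theorem exists_move {P R : Pt} (hP : IsPt m P) (hR : IsPt m R) (hne : P ≠ R) :
    ∃ k : Cfsg.Sz F m, k • ∞' = P ∧ k • O' = R := by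
  obtain ⟨p, rfl⟩ := hP
  obtain ⟨r, rfl⟩ := hR
  exact h.exists_pair hm (fun z => hne (by rw [z]))

/-- An element fixing three points of the ovoid is trivial. -/
theorem eq_one_of_three {P R S : Pt} (hP : IsPt m P) (hR : IsPt m R) (hS : IsPt m S) (h1 : P ≠ R)
    (h2 : P ≠ S) (h3 : R ≠ S) {g : Cfsg.Sz F m} (gP : g • P = P) (gR : g • R = R) (gS : g • S = S) :
    g = 1 := by
  obtain ⟨k, kP, kR⟩ := exists_move h hm hP hR h1
  obtain ⟨s, hs⟩ := isPt_smul h hm k⁻¹ hS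
  have e1 : (k⁻¹ * g * k) • ∞' = ∞' := by rw [mul_smul, mul_smul, kP, gP, ← kP, inv_smul_smul]
  have e2 : (k⁻¹ * g * k) • O' = O' := by rw [mul_smul, mul_smul, kR, gR, ← kR, inv_smul_smul]
  have e3 : (k⁻¹ * g * k) • opt m s = opt m s := by rw [← hs, mul_smul, mul_smul, smul_inv_smul, gS]
  rcases s with _ | ⟨x, y⟩
  · exact absurd (by rw [← kP, ← hs, smul_inv_smul]) h2
  · have := h.fix_three hm e1 e2 (x := x) (y := y) (fun z => h3 (by
      rw [z.1, z.2] at hs; rw [← kR, ← hs, smul_inv_smul])) e3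
    simpa [mul_assoc] using congrArg (fun w => k * w * k⁻¹) this

/-- An element fixing two points has order dividing `q - 1`. -/
theorem pow_of_two {P R : Pt} (hP : IsPt m P) (hR : IsPt m R) (hne : P ≠ R) {g : Cfsg.Sz F m}
    (gP : g • P = P) (gR : g • R = R) : g ^ (Fintype.card F - 1) = 1 := by
  obtain ⟨k, kP, kR⟩ := exists_move h hm hP hR hne
  obtain ⟨e, he⟩ := h.eq_of_fix_two hm (g := k⁻¹ * g * k)
    (by rw [mul_smul, mul_smul, kP, gP, ← kP, inv_smul_smul])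
    (by rw [mul_smul, mul_smul, kR, gR, ← kR, inv_smul_smul])
  have hg : g = k * dS h e * k⁻¹ := by rw [← he]; group
  rw [hg, conj_pow, dS_pow_card h hm, mul_one, mul_inv_cancel]

/-- A non-trivial element of exponent four fixes at most one point. -/
theorem fix_unique {P R : Pt} (hP : IsPt m P) (hR : IsPt m R) {g : Cfsg.Sz F m} (h4 : g ^ 4 = 1)
    (h1 : g ≠ 1) (gP : g • P = P) (gR : g • R = R) : P = R := by
  by_contra hne
  exact h1 (eq_one_of_coprime (pow_of_two h hm hP hR hne gP gR) h4 (card_arith h hm).1)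

/-- An element of exponent four fixes a point. -/
theorem exists_fix_of_four {g : Cfsg.Sz F m} (h4 : g ^ 4 = 1) (h1 : g ≠ 1) : HasFix g := by
  by_contra hf
  exact h1 (eq_one_of_coprime (inE_of_not_fix h hm hf).2 h4 (card_arith h hm).2.1)

/-- A subgroup of exponent four fixes the point fixed by one of its non-trivial elements. -/
theorem fix_of_exponent_four (D : Subgroup (Cfsg.Sz F m)) (hD : ∀ d ∈ D, d ^ 4 = 1) {z : Cfsg.Sz F m}
    (hz : z ∈ D) (hz1 : z ≠ 1) {P : Pt} (hP : IsPt m P) (zP : z • P = P) :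
    ∀ d ∈ D, d • P = P := by
  haveI : Fact (Nat.Prime 2) := ⟨Nat.prime_two⟩
  haveI : Nontrivial D := ⟨⟨⟨z, hz⟩, 1, fun e => hz1 (congrArg Subtype.val e)⟩⟩
  have hp : IsPGroup 2 D := fun d => ⟨2, Subtype.ext (hD _ d.2)⟩
  haveI := hp.center_nontrivial
  obtain ⟨⟨⟨c, hcD⟩, hcc⟩, hc⟩ := exists_ne (1 : Subgroup.center D)
  have hc1 : c ≠ 1 := fun e => hc (Subtype.ext (Subtype.ext e))
  have hcomm : ∀ d ∈ D, d * c = c * d := fun d hd =>
    congrArg Subtype.val (Subgroup.mem_center_iff.1 hcc ⟨d, hd⟩)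
  obtain ⟨s, hs⟩ := exists_fix_of_four h hm (hD c hcD) hc1
  have key : ∀ d ∈ D, d • opt m s = opt m s := fun d hd => by
    refine fix_unique h hm (isPt_smul h hm d ⟨s, rfl⟩) ⟨s, rfl⟩ (hD c hcD) hc1 ?_ hs
    rw [← mul_smul, ← hcomm d hd, mul_smul, hs]
  rw [← fix_unique h hm ⟨s, rfl⟩ hP (hD z hz) hz1 (key z hz) zP]
  exact key

/-- In a pair stabiliser the square of an element fixes both points. -/
theorem sq_fix {P R : Pt} {g : Cfsg.Sz F m} (hg : g ∈ pairStab P R) :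
    g ^ 2 • P = P ∧ g ^ 2 • R = R := by
  rw [sq, mul_smul, mul_smul]
  rcases hg with ⟨g1, g2⟩ | ⟨g1, g2⟩
  · exact ⟨by rw [g1, g1], by rw [g2, g2]⟩
  · exact ⟨by rw [g1, g2], by rw [g2, g1]⟩

/-- An element exchanging two points is an involution. -/
theorem sq_of_swap {P R : Pt} (hP : IsPt m P) (hR : IsPt m R) (hne : P ≠ R) {g : Cfsg.Sz F m}
    (gP : g • P = R) (gR : g • R = P) : g ^ 2 = 1 := by
  obtain ⟨k, kP, kR⟩ := exists_move h hm hP hR hne
  obtain ⟨e, he⟩ := h.eq_of_fix_two hm (g := wS h * (k⁻¹ * g * k))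
    (by rw [mul_smul, mul_smul, mul_smul, kP, gP, ← kR, inv_smul_smul, h.wS_smul_zero])
    (by rw [mul_smul, mul_smul, mul_smul, kR, gR, ← kP, inv_smul_smul, h.wS_smul_none])
  have h1 : k⁻¹ * g * k = wS h * dS h e := by
    rw [← he, ← mul_assoc (wS h), h.wS_mul_self, one_mul]
  have h2 : (wS h * dS h e) ^ 2 = 1 := by
    rw [sq]
    nth_rewrite 1 [h.wS_mul_dS]
    rw [mul_assoc, ← mul_assoc (wS h), h.wS_mul_self, one_mul, ← map_mul, inv_mul_cancel, map_one]
  have hg : g = k * (wS h * dS h e) * k⁻¹ := by rw [← h1]; group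
  rw [hg, conj_pow, h2, mul_one, mul_inv_cancel]

theorem card_pairStab {P R : Pt} (hP : IsPt m P) (hR : IsPt m R) (hne : P ≠ R) :
    Nat.card {g : Cfsg.Sz F m // g • P = P ∧ g • R = R} = Fintype.card F - 1 ∧
      Nat.card {g : Cfsg.Sz F m // g • P = R ∧ g • R = P} = Fintype.card F - 1 := by
  obtain ⟨k, kP, kR⟩ := exists_move h hm hP hR hne
  let f1 : Fˣ → {g : Cfsg.Sz F m // g • P = P ∧ g • R = R} := fun e => ⟨k * dS h e * k⁻¹,
    by rw [← kP, mul_smul, mul_smul, inv_smul_smul, h.dS_smul_none],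
    by rw [← kR, mul_smul, mul_smul, inv_smul_smul, h.dS_smul_zero]⟩
  let f2 : Fˣ → {g : Cfsg.Sz F m // g • P = R ∧ g • R = P} := fun e => ⟨k * (wS h * dS h e) * k⁻¹,
    by rw [← kP, ← kR, mul_smul, mul_smul, inv_smul_smul, mul_smul, h.dS_smul_none, h.wS_smul_none],
    by rw [← kP, ← kR, mul_smul, mul_smul, inv_smul_smul, mul_smul, h.dS_smul_zero, h.wS_smul_zero]⟩
  have b1 : Function.Bijective f1 := by
    refine ⟨fun a b e => h.dS_injective (mul_left_cancel (mul_right_cancel (congrArg Subtype.val e))), ?_⟩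
    rintro ⟨g, gP, gR⟩
    obtain ⟨e, he⟩ := h.eq_of_fix_two hm (g := k⁻¹ * g * k)
      (by rw [mul_smul, mul_smul, kP, gP, ← kP, inv_smul_smul])
      (by rw [mul_smul, mul_smul, kR, gR, ← kR, inv_smul_smul])
    exact ⟨e, Subtype.ext (by show k * dS h e * k⁻¹ = g; rw [← he]; group)⟩
  have b2 : Function.Bijective f2 := by
    refine ⟨fun a b e =>
      h.dS_injective (mul_left_cancel (mul_left_cancel (mul_right_cancel (congrArg Subtype.val e)))), ?_⟩
    rintro ⟨g, gP, gR⟩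
    obtain ⟨e, he⟩ := h.eq_of_fix_two hm (g := wS h * (k⁻¹ * g * k))
      (by rw [mul_smul, mul_smul, mul_smul, kP, gP, ← kR, inv_smul_smul, h.wS_smul_zero])
      (by rw [mul_smul, mul_smul, mul_smul, kR, gR, ← kP, inv_smul_smul, h.wS_smul_none])
    refine ⟨e, Subtype.ext ?_⟩
    show k * (wS h * dS h e) * k⁻¹ = g
    rw [← he, ← mul_assoc (wS h), h.wS_mul_self, one_mul]
    group
  rw [← Nat.card_eq_of_bijective f1 b1, ← Nat.card_eq_of_bijective f2 b2, Nat.card_units,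
    Nat.card_eq_fintype_card]
  exact ⟨rfl, rfl⟩

end Cfsg.Agent.Lib.SzSolubilizer
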