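import Cfsg.Agent.Lib.SzSolubilizer.Pairs
import Mathlib

/-!
Solubilizers of the elements of order two and four.
Owner: helper50.
-/

set_option autoImplicit false
set_option linter.unusedSectionVars false
set_option linter.style.haveILetI false

namespace Cfsg.Agent.Lib.SzSolubilizer

open Cfsg.Agent.Lib.LieTwisted.Suzuki Cfsg.Agent.Lib.SzTori Cfsg.Agent.Lib.SzElements.Basic

variable {F : Type*} [Field F] [Fintype F] {m : ℕ}

local notation "Pt" => Projectivization F (Fin 4 → F)
local notation "∞'" => (opt m (none : Option (F × F)))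

variable (h : IsSzField F m) (hm : 1 ≤ m)

include h hm

theorem card_sol_unip {x : Cfsg.Sz F m} (h4 : x ^ 4 = 1) (hx1 : x ≠ 1) (hxf : x • ∞' = ∞') :
    Nat.card (sol x) = Fintype.card F ^ 2 * (Fintype.card F - 1) + Nat.card (Wp x) + 4 * Nat.card (E x) := by
  classical
  haveI : Fintype (Cfsg.Sz F m) := Fintype.ofFinite _
  rw [← card_We h hm h4 hx1 hxf]
  set S0 : Set (Cfsg.Sz F m) := (MulAction.stabilizer (Cfsg.Sz F m) ∞' : Set (Cfsg.Sz F m)) with hS0
  have hset : sol x = S0 ∪ Wp x ∪ We x := by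
    ext y
    rw [mem_sol_iff h hm hx1]
    constructor
    · rintro (⟨P, hP, xP, yP⟩ | ⟨P, R, hP, hR, hne, xm, ym⟩ | ⟨g, hg, xm, ym⟩)
      · rw [fix_unique h hm hP ⟨none, rfl⟩ h4 hx1 xP hxf] at yP
        exact Or.inl (Or.inl yP)
      · by_cases hy : y • ∞' = ∞'
        · exact Or.inl (Or.inl hy)
        · exact Or.inl (Or.inr ⟨hy, P, R, hP, hR, hne, xm, ym⟩)
      · by_cases hy : y • ∞' = ∞'
        · exact Or.inl (Or.inl hy)
        · exact Or.inr ⟨hy, g, hg, xm, ym⟩
    · rintro ((hy | ⟨-, hy⟩) | ⟨-, hy⟩)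
      · exact Or.inl ⟨∞', ⟨none, rfl⟩, hxf, hy⟩
      · exact Or.inr (Or.inl hy)
      · exact Or.inr (Or.inr hy)
  have hd1 : Disjoint S0 (Wp x) := Set.disjoint_left.2 fun y a b => b.1 a
  have hd2 : Disjoint (S0 ∪ Wp x) (We x) := by
    rw [Set.disjoint_left]
    rintro y (a | ⟨hy, P, R, hP, hR, hne, xm, ym⟩) ⟨hy', g, hg, xg, yg⟩
    · exact hy' a
    have hy1 : y ≠ 1 := fun e => hy (by rw [e, one_smul])
    rcases ym with ⟨y1, y2⟩ | ⟨y1, y2⟩
    · exact hy1 (eq_one_of_split_normalizer h hm hg yg (pow_of_two h hm hP hR hne y1 y2))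
    rcases xm with ⟨x1, x2⟩ | ⟨x1, x2⟩
    · exact hne (fix_unique h hm hP hR h4 hx1 x1 x2)
    have hxy : x * y = 1 := eq_one_of_split_normalizer h hm hg (mul_mem xg yg)
      (pow_of_two h hm hP hR hne (by rw [mul_smul, y1, x2]) (by rw [mul_smul, y2, x1]))
    exact hy (by rw [eq_inv_of_mul_eq_one_right hxy, inv_smul_eq_iff, hxf])
  rw [hset, Nat.card_coe_set_eq, Set.ncard_union_eq hd2, Set.ncard_union_eq hd1, ← Nat.card_coe_set_eq,
    ← Nat.card_coe_set_eq, ← Nat.card_coe_set_eq]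
  show Nat.card (MulAction.stabilizer (Cfsg.Sz F m) ∞') + _ + _ = _
  rw [card_stab_pt h hm ⟨none, rfl⟩]

theorem card_sol_involution {x : Cfsg.Sz F m} (hx2 : x ^ 2 = 1) (hx1 : x ≠ 1) (hxf : x • ∞' = ∞') :
    Nat.card (sol x) = Fintype.card F ^ 2 * (4 * Fintype.card F - 3) := by
  have hxx : x * x = 1 := by rw [← sq, hx2]
  rw [card_sol_unip h hm (show x ^ 4 = 1 by simp [pow_succ, mul_assoc, hxx]) hx1 hxf]
  have hW := two_mul_Wp h hm hx2 hx1 hxf
  have hE := two_mul_card_E h hm hx2 hx1 hxf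
  have hq := h.two_lt_card hm
  zify [(show 1 ≤ Fintype.card F by omega), (show 2 ≤ Fintype.card F by omega),
    (show 3 ≤ 4 * Fintype.card F by omega)] at hW hE ⊢
  nlinarith [hW, hE]

theorem conj_mem_nor {u d c : Cfsg.Sz F m} (hd : d ∈ nor c) : u * d * u⁻¹ ∈ nor (u * c * u⁻¹) := by
  have : cen (u * c * u⁻¹) = (cen c).map (MulAut.conj u).toMonoidHom := centralizer_conj u c
  rw [nor, this, ← Subgroup.map_equiv_normalizer_eq]
  exact ⟨d, hd, rfl⟩

theorem card_E_conj (u d : Cfsg.Sz F m) : Nat.card (E (u * d * u⁻¹)) = Nat.card (E d) := by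
  refine (Nat.card_congr ((MulAut.conj u).toEquiv.subtypeEquiv fun c => ?_)).symm
  show c ∈ E d ↔ u * c * u⁻¹ ∈ E (u * d * u⁻¹)
  constructor
  · rintro ⟨hc, hn⟩
    exact ⟨inE_conj h hm u hc, conj_mem_nor h hm hn⟩
  · rintro ⟨hc, hn⟩
    have h1 := inE_conj h hm u⁻¹ hc
    have h2 := conj_mem_nor h hm (u := u⁻¹) hn
    simp only [inv_inv, mul_assoc, inv_mul_cancel_left, inv_mul_cancel, mul_one] at h1 h2
    exact ⟨h1, h2⟩

theorem E_inv (d : Cfsg.Sz F m) : E d⁻¹ = E d :=
  Set.ext fun _ => and_congr_right fun _ => inv_mem_iff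

/-- The root elements with a given square form a single orbit up to inversion. -/
theorem square_roots {a : F} (ha : a ≠ 0) (b b' : F) :
    ∃ u, u * uS h a b * u⁻¹ = uS h a b' ∨ u * uS h a b * u⁻¹ = (uS h a b')⁻¹ := by
  classical
  set L : F →+ F :=
    { toFun := fun c => sg m c * a + sg m a * c
      map_zero' := by simp [sg_zero]
      map_add' := fun c c' => by rw [h.sg_add]; ring } with hL
  have hconj : ∀ c, uS h c 0 * uS h a b * (uS h c 0)⁻¹ = uS h a (b + L c) := by
    intro c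
    have := conj_uS h c 0 1 a b
    simp only [Units.val_one, sg_one, one_mul, one_pow, map_one, mul_one] at this
    rw [this]
    congr 1
    simp [hL, add_assoc]
  have hcard : Nat.card L.ker ≤ 2 := by
    have hsub : ∀ c ∈ L.ker, c = 0 ∨ c = a := by
      intro c hc
      have hc' : sg m c * a + sg m a * c = 0 := hc
      obtain ⟨t, rfl⟩ : ∃ t, c = a * t := ⟨c / a, by field_simp⟩
      rw [sg_mul] at hc'
      have h1 : sg m a * a * (sg m t + t) = 0 := by linear_combination hc'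
      have h2 : sg m t + t = 0 := (mul_eq_zero.1 h1).resolve_left (mul_ne_zero (mt sg_eq_zero.1 ha) ha)
      by_cases ht : t = 0
      · exact Or.inl (by rw [ht, mul_zero])
      by_cases ht1 : t = 1
      · exact Or.inr (by rw [ht1, mul_one])
      exact absurd (by linear_combination h2 - t * h.two0 : sg m t = t) (h.sg_ne_self ht ht1)
    let f : L.ker → Bool := fun c => decide ((c : F) = 0)
    refine (Nat.card_le_card_of_injective f ?_).trans (by simp)
    intro c c' e
    have e' : ((c : F) = 0) ↔ ((c' : F) = 0) := decide_eq_decide.1 e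
    rcases hsub c c.2 with r | r <;> rcases hsub c' c'.2 with r' | r' <;> apply Subtype.ext
    · rw [r, r']
    · exact absurd ((e'.1 r).symm.trans r') (Ne.symm ha)
    · exact absurd ((e'.2 r').symm.trans r) (Ne.symm ha)
    · rw [r, r']
  set δ := sg m a * a with hδ
  have hnot : δ ∉ L.range := by
    rintro ⟨c, hc⟩
    refine not_conj_inv h hm (b := b) ha (uS h c 0) ?_
    rw [hconj, hc, h.uS_inv]
  have hsurj : ∀ v : F, v ∈ L.range ∨ v - δ ∈ L.range := by
    intro v
    by_contra hv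
    push Not at hv
    have hidx : L.range.index ≤ 2 := by
      have h1 := L.range.card_mul_index
      have h2 : Nat.card L.ker * L.ker.index = Nat.card F := L.ker.card_mul_index
      rw [AddSubgroup.index_ker] at h2
      rw [← h2, mul_comm] at h1
      rw [Nat.eq_of_mul_eq_mul_right Nat.card_pos h1]
      exact hcard
    let f : Fin 3 → F ⧸ L.range := ![((0 : F) : F ⧸ L.range), (δ : F ⧸ L.range), (v : F ⧸ L.range)]
    have hf : Function.Injective f := by
      have n1 : ((0 : F) : F ⧸ L.range) ≠ δ := fun e => hnot (by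
        rw [QuotientAddGroup.eq] at e; simpa using e)
      have n2 : ((0 : F) : F ⧸ L.range) ≠ v := fun e => hv.1 (by
        rw [QuotientAddGroup.eq] at e; simpa using e)
      have n3 : (δ : F ⧸ L.range) ≠ v := fun e => hv.2 (by
        rw [QuotientAddGroup.eq] at e; rwa [sub_eq_neg_add])
      intro i j e
      fin_cases i <;> fin_cases j <;>
        first | rfl | exact absurd e n1 | exact absurd e n2 | exact absurd e n3 |
          exact absurd e.symm n1 | exact absurd e.symm n2 | exact absurd e.symm n3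
    have h3 := Nat.card_le_card_of_injective f hf
    rw [Nat.card_fin, ← AddSubgroup.index_eq_card] at h3
    omega
  rcases hsurj (b' - b) with ⟨c, hc⟩ | ⟨c, hc⟩
  · exact ⟨uS h c 0, Or.inl (by rw [hconj, hc, add_sub_cancel])⟩
  · refine ⟨uS h c 0, Or.inr ?_⟩
    rw [hconj, hc, h.uS_inv]
    congr 1
    linear_combination -δ * h.two0

theorem card_E_four {a b : F} (ha : a ≠ 0) :
    Nat.card (E (uS h a b)) = Fintype.card F ^ 2 := by
  classical
  haveI : Fintype (Cfsg.Sz F m) := Fintype.ofFinite _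
  set z := uS h a b ^ 2 with hzdef
  have hz1 : z ≠ 1 := fun e => ha (Cfsg.Agent.Lib.SzElements.Basic.eq_zero_of_sq h e)
  have hz2 : z ^ 2 = 1 := by
    rw [hzdef, h.uS_sq, h.uS_sq]; simp [sg_zero, h.uS_zero]
  have hzf : z • ∞' = ∞' := by rw [hzdef, h.uS_sq, h.uS_smul_none]
  have hsq : ∀ b', uS h a b' ^ 2 = z := fun b' => by rw [hzdef, h.uS_sq, h.uS_sq]
  have hsame : ∀ b', Nat.card (E (uS h a b')) = Nat.card (E (uS h a b)) := fun b' => by
    obtain ⟨u, hu | hu⟩ := square_roots h hm ha b b'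
    · rw [← hu, card_E_conj h hm]
    · rw [← E_inv h hm (uS h a b'), ← hu, card_E_conj h hm]
  let r : F → Cfsg.Sz F m → Prop := fun b' c => c ∈ E (uS h a b')
  set W : Finset (Cfsg.Sz F m) := Finset.univ.filter fun c => c ∈ E z
  have h1 : ∀ b' : F, (W.bipartiteAbove r b').card = Nat.card (E (uS h a b)) := by
    intro b'
    rw [← hsame b', Nat.card_eq_fintype_card, ← Set.toFinset_card]
    congr 1
    ext c
    simp only [Finset.mem_bipartiteAbove, W, Finset.mem_filter, Finset.mem_univ, true_and, r, Set.mem_toFinset]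
    exact ⟨fun hc => hc.2, fun hc => ⟨⟨hc.1, hsq b' ▸ pow_mem hc.2 2⟩, hc⟩⟩
  have h2 : ∀ c ∈ W, ((Finset.univ : Finset F).bipartiteBelow r c).card = 2 := by
    intro c hc
    obtain ⟨hcE, hzn⟩ := (Finset.mem_filter.1 hc).2
    set D : Subgroup (Cfsg.Sz F m) := nor c ⊓ MulAction.stabilizer (Cfsg.Sz F m) ∞' with hD
    have hz4 : z ^ 4 = 1 := z_four h hm hz2 hz1 hzf
    have hDc : (Finset.univ.filter fun d => d ∈ D).card = 4 := by
      refine Eq.trans ?_ (card_nor_stab h hm hz4 hz1 hzf hcE hzn)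
      rw [Nat.card_eq_fintype_card, Fintype.card_subtype]
    have hinvol : ∀ d ∈ D, d ^ 2 = 1 → d ≠ 1 → d = z := by
      intro d hd hd2 hd1
      obtain ⟨dn, df⟩ := Subgroup.mem_inf.1 hd
      have i1 := inverts h hm hz2 hz1 hcE hzn
      have i2 := inverts h hm hd2 hd1 hcE dn
      have hzz : z * z = 1 := by rw [← sq, hz2]
      have hdd : d * d = 1 := by rw [← sq, hd2]
      have hcomm : c * (z * d) = z * d * c := by
        have e1 : c⁻¹ * d = d * c := by rw [← i2, mul_assoc, hdd, mul_one]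
        have e2 : z * c⁻¹ = c * z := by rw [← i1, ← mul_assoc, ← mul_assoc, hzz, one_mul]
        rw [← mul_assoc, ← e2, mul_assoc z c⁻¹, e1, ← mul_assoc]
      have := cen_inter_stab h hm hcE (mem_centralizer_iff'.2 hcomm)
        (by rw [mul_smul, df, hzf])
      rw [← one_mul d, ← hzz, mul_assoc, this, mul_one]
    have hA : (Finset.univ.filter fun d => d ∈ D ∧ d ^ 2 = z) = (Finset.univ.filter fun d => d ∈ D) \ {1, z} := by
      ext d
      simp only [Finset.mem_filter, Finset.mem_univ, true_and, Finset.mem_sdiff, Finset.mem_insert,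
        Finset.mem_singleton, not_or]
      constructor
      · rintro ⟨hd, hd2⟩
        exact ⟨hd, fun e => hz1 (by rw [← hd2, e, one_pow]), fun e => hz1 (by rw [← hd2, e, hz2])⟩
      · rintro ⟨hd, hd1, hdz⟩
        have hne : d ^ 2 ≠ 1 := fun e => hdz (hinvol d hd e hd1)
        refine ⟨hd, hinvol _ (pow_mem hd 2) ?_ hne⟩
        obtain ⟨dn, df⟩ := Subgroup.mem_inf.1 hd
        rw [← pow_mul]
        exact four_of_stab h hm hcE dn df
    have hcardA : (Finset.univ.filter fun d => d ∈ D ∧ d ^ 2 = z).card = 2 := by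
      rw [hA, Finset.card_sdiff_of_subset, hDc, Finset.card_pair (Ne.symm hz1)]
      intro d hd
      simp only [Finset.mem_insert, Finset.mem_singleton] at hd
      simp only [Finset.mem_filter, Finset.mem_univ, true_and]
      rcases hd with rfl | rfl
      · exact one_mem _
      · exact Subgroup.mem_inf.2 ⟨hzn, hzf⟩
    rw [← hcardA]
    refine Finset.card_bij (fun b' _ => uS h a b') (fun b' hb => ?_) (fun b₁ _ b₂ _ e => (h.uS_coords_inj e).2)
      (fun d hd => ?_)
    · simp only [Finset.mem_bipartiteBelow, Finset.mem_univ, true_and, r] at hb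
      simp only [Finset.mem_filter, Finset.mem_univ, true_and]
      exact ⟨Subgroup.mem_inf.2 ⟨hb.2, h.uS_smul_none a b'⟩, hsq b'⟩
    · simp only [Finset.mem_filter, Finset.mem_univ, true_and] at hd
      obtain ⟨dn, df⟩ := Subgroup.mem_inf.1 hd.1
      obtain ⟨a', b', rfl⟩ := unip_of_four h hm (four_of_stab h hm hcE dn df) df
      have e := hd.2
      rw [hzdef, h.uS_sq, h.uS_sq] at e
      have haa : a' = a := h.sg_mul_self_inj (h.uS_coords_inj e).2
      subst haa
      exact ⟨b', by simp only [Finset.mem_bipartiteBelow, Finset.mem_univ, true_and, r]; exact ⟨hcE, dn⟩, rfl⟩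
  have := Finset.sum_card_bipartiteAbove_eq_sum_card_bipartiteBelow r (s := (Finset.univ : Finset F)) (t := W)
  rw [Finset.sum_congr rfl (fun b' _ => h1 b'), Finset.sum_congr rfl h2, Finset.sum_const, Finset.sum_const,
    Finset.card_univ] at this
  simp only [smul_eq_mul] at this
  have hW : W.card = Nat.card (E z) := by
    rw [Nat.card_eq_fintype_card, ← Set.toFinset_card]; congr 1; ext c; simp [W]
  rw [hW, mul_comm (Nat.card (E z)), two_mul_card_E h hm hz2 hz1 hzf, pow_succ' _ 2] at this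
  exact Nat.eq_of_mul_eq_mul_left Fintype.card_pos this

theorem card_sol_four {a b : F} (ha : a ≠ 0) :
    Nat.card (sol (uS h a b)) = Fintype.card F ^ 2 * (Fintype.card F + 3) := by
  have hx4 : uS h a b ^ 4 = 1 := pow_four_of_mem h hm (h.uS_mem a b)
  have hx1 : uS h a b ≠ 1 := fun e => ha (by rw [← h.uS_zero] at e; exact (h.uS_coords_inj e).1)
  have hx2 : uS h a b ^ 2 ≠ 1 := fun e => ha (Cfsg.Agent.Lib.SzElements.Basic.eq_zero_of_sq h e)
  rw [card_sol_unip h hm hx4 hx1 (h.uS_smul_none a b), card_E_four h hm ha]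
  have hW : Nat.card (Wp (uS h a b)) = 0 := by
    have : IsEmpty (Wp (uS h a b)) := ⟨fun ⟨y, _, P, R, hP, hR, hne, xm, _⟩ => by
      obtain ⟨s1, s2⟩ := sq_fix h hm xm
      exact hne (fix_unique h hm hP hR (show (uS h a b ^ 2) ^ 4 = 1 by rw [pow_right_comm, hx4, one_pow]) hx2 s1 s2)⟩
    exact Nat.card_of_isEmpty
  rw [hW]
  have hq := h.two_lt_card hm
  zify [(show 1 ≤ Fintype.card F by omega)]
  ring

theorem exists_conj_stab {x : Cfsg.Sz F m} (h4 : x ^ 4 = 1) :
    ∃ k a b, x = k * uS h a b * k⁻¹ := by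
  by_cases hx1 : x = 1
  · exact ⟨1, 0, 0, by rw [hx1, h.uS_zero]; group⟩
  obtain ⟨p, hp⟩ := exists_fix_of_four h hm h4 hx1
  obtain ⟨k, hk⟩ := exists_to h hm p
  obtain ⟨a, b, hab⟩ := unip_of_four h hm (s := k⁻¹ * x * k)
    (by have := conj_pow (a := k⁻¹) (b := x) (i := 4); rw [inv_inv] at this; rw [this, h4]; group)
    (by rw [mul_smul, mul_smul, hk, hp, ← hk, inv_smul_smul])
  exact ⟨k, a, b, by rw [← hab]; group⟩

theorem solubilizer_cards (x : Cfsg.Sz F m) :
    (orderOf x = 2 → Nat.card (sol x) = Fintype.card F ^ 2 * (4 * Fintype.card F - 3)) ∧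
    (orderOf x = 4 → Nat.card (sol x) = Fintype.card F ^ 2 * (Fintype.card F + 3)) ∧
    (x ≠ 1 → orderOf x ∣ Fintype.card F - 1 →
      Nat.card (sol x) = 2 * Fintype.card F ^ 2 * (Fintype.card F - 1)) ∧
    (∀ k ∈ ({2 ^ (2 * m + 1) + 2 ^ (m + 1) + 1, 2 ^ (2 * m + 1) - 2 ^ (m + 1) + 1} : Set ℕ),
      x ≠ 1 → orderOf x ∣ k → Nat.card (sol x) = 4 * k) := by
  refine ⟨fun ho => ?_, fun ho => ?_, fun hx1 ho => card_sol_split h hm hx1 (orderOf_dvd_iff_pow_eq_one.1 ho),
    fun k hk hx1 ho => ?_⟩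
  · have h4 : x ^ 4 = 1 := orderOf_dvd_iff_pow_eq_one.1 (by rw [ho]; norm_num)
    obtain ⟨g, a, b, rfl⟩ := exists_conj_stab h hm h4
    rw [← MulAut.conj_apply, card_sol_equiv]
    rw [← MulAut.conj_apply, MulEquiv.orderOf_eq] at ho
    exact card_sol_involution h hm (orderOf_dvd_iff_pow_eq_one.1 ho.dvd)
      (fun e => by rw [e, orderOf_one] at ho; omega) (h.uS_smul_none a b)
  · have h4 : x ^ 4 = 1 := orderOf_dvd_iff_pow_eq_one.1 ho.dvd
    obtain ⟨g, a, b, rfl⟩ := exists_conj_stab h hm h4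
    rw [← MulAut.conj_apply, card_sol_equiv]
    rw [← MulAut.conj_apply, MulEquiv.orderOf_eq] at ho
    refine card_sol_four h hm fun ha => ?_
    have h2 : orderOf (uS h a b) ∣ 2 := orderOf_dvd_iff_pow_eq_one.2 (by
      rw [h.uS_sq, ha]; simp [sg_zero, h.uS_zero])
    rw [ho] at h2
    norm_num at h2
  · obtain ⟨hor, hex⟩ := torus_orders h hm
    obtain ⟨g₁, hg₁, hc₁⟩ := hex k hk
    have hkd : k ∣ Fintype.card F ^ 2 + 1 := hc₁ ▸ torus_card_dvd h hm hg₁
    have hE : InE x := ⟨hx1, orderOf_dvd_iff_pow_eq_one.1 (ho.trans hkd)⟩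
    rw [card_sol_inE h hm hE]
    congr 1
    have hd1 : orderOf x ∣ Nat.card (cen x) := Subgroup.orderOf_dvd_natCard _ (mem_centralizer_iff'.2 rfl)
    have hcx := hor x hE
    simp only [Set.mem_insert_iff, Set.mem_singleton_iff] at hk hcx
    set q := 2 ^ (2 * m + 1) with hq
    set r := 2 ^ (m + 1) with hr
    have hrq : r ≤ q := Nat.pow_le_pow_right (by norm_num) (by omega)
    have hn2 : orderOf x ≠ 1 := fun e => hx1 (orderOf_eq_one_iff.1 e)
    have key : (q + r + 1).Coprime (q - r + 1) := by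
      obtain ⟨gA, hgA, hA⟩ := hex _ (Or.inl rfl)
      obtain ⟨gB, hgB, hB⟩ := hex _ (Or.inr rfl)
      have hne : q + r + 1 ≠ q - r + 1 := by
        have : 0 < r := pow_pos (by norm_num) _
        omega
      have hc := coprime_of_notMem h hm hgA hgB (fun hmem => hne (by
        rw [← hA, ← hB]; exact (conjSet_eq h hm hgA hmem).2.symm))
      rwa [hA, hB] at hc
    rcases hk with rfl | rfl <;> rcases hcx with e | e
    · exact e
    · exact absurd (Nat.eq_one_of_dvd_coprimes key ho (e ▸ hd1)) hn2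
    · exact absurd (Nat.eq_one_of_dvd_coprimes key (e ▸ hd1) ho) hn2
    · exact e

end Cfsg.Agent.Lib.SzSolubilizer
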