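import Cfsg.Agent.Lib.SzSolubilizer.Torus
import Mathlib

/-!
The tori normalised by an element of exponent four.
Owner: helper50.
-/

set_option autoImplicit false
set_option linter.unusedSectionVars false
set_option linter.style.haveILetI false

namespace Cfsg.Agent.Lib.SzSolubilizer

open Cfsg.Agent.Lib.LieTwisted.Suzuki Cfsg.Agent.Lib.SzTori

variable {F : Type*} [Field F] [Fintype F] {m : ℕ}

local notation "Pt" => Projectivization F (Fin 4 → F)
local notation "∞'" => (opt m (none : Option (F × F)))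

/-- The normaliser of a torus. -/
abbrev nor (g : Cfsg.Sz F m) : Subgroup (Cfsg.Sz F m) := Subgroup.normalizer (cen g : Set (Cfsg.Sz F m))

/-- The fixed-point-free elements whose torus is normalised by `x`. -/
def E (x : Cfsg.Sz F m) : Set (Cfsg.Sz F m) := {c | InE c ∧ x ∈ nor c}

/-- The elements outside the Borel subgroup lying in a torus normaliser with `x`. -/
def We (x : Cfsg.Sz F m) : Set (Cfsg.Sz F m) :=
  {y | y • ∞' ≠ ∞' ∧ ∃ g, InE g ∧ x ∈ nor g ∧ y ∈ nor g}

variable (h : IsSzField F m) (hm : 1 ≤ m)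

include h hm

theorem four_of_stab {g d : Cfsg.Sz F m} (hg : InE g) (hd : d ∈ nor g) (hdf : d • ∞' = ∞') : d ^ 4 = 1 := by
  by_contra h4
  have hE := torus_inE h hm hg (pow_four_mem_cen h hm hg hd) h4
  exact not_fix_of_inE h hm hE ⟨none, by simp only [pow_succ, pow_zero, one_mul, mul_smul, hdf]⟩

theorem cen_inter_stab {g d : Cfsg.Sz F m} (hg : InE g) (hd : d ∈ cen g) (hdf : d • ∞' = ∞') : d = 1 := by
  by_contra h1
  exact not_fix_of_inE h hm (torus_inE h hm hg hd h1) ⟨none, hdf⟩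

theorem card_nor_stab {x : Cfsg.Sz F m} (h4 : x ^ 4 = 1) (hx1 : x ≠ 1) (hxf : x • ∞' = ∞') {g : Cfsg.Sz F m}
    (hg : InE g) (hx : x ∈ nor g) :
    Nat.card ↥(nor g ⊓ MulAction.stabilizer (Cfsg.Sz F m) ∞') = 4 := by
  haveI : Fact (Nat.Prime 2) := ⟨Nat.prime_two⟩
  set D := nor g ⊓ MulAction.stabilizer (Cfsg.Sz F m) ∞' with hD
  apply le_antisymm
  · haveI : ((cen g).subgroupOf (nor g)).Normal := Subgroup.normal_in_normalizer
    let f : D → nor g ⧸ (cen g).subgroupOf (nor g) := fun d => QuotientGroup.mk ⟨d, (Subgroup.mem_inf.1 d.2).1⟩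
    have hf : Function.Injective f := by
      intro a b hab
      rw [QuotientGroup.eq, Subgroup.mem_subgroupOf] at hab
      have h1 := cen_inter_stab h hm hg hab ((MulAction.stabilizer (Cfsg.Sz F m) ∞').mul_mem
        ((MulAction.stabilizer (Cfsg.Sz F m) ∞').inv_mem (Subgroup.mem_inf.1 a.2).2) (Subgroup.mem_inf.1 b.2).2)
      exact Subtype.ext (inv_mul_eq_one.1 h1)
    refine (Nat.card_le_card_of_injective f hf).trans (le_of_eq ?_)
    have h1 := Subgroup.card_eq_card_quotient_mul_card_subgroup ((cen g).subgroupOf (nor g))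
    rw [Nat.card_congr (Subgroup.subgroupOfEquivOfLe (Subgroup.le_normalizer : cen g ≤ nor g)).toEquiv,
      card_normalizer h hm hg] at h1
    exact (Nat.eq_of_mul_eq_mul_right Nat.card_pos h1).symm
  · have hp : IsPGroup 2 (Subgroup.zpowers (⟨x, hx⟩ : nor g)) := by
      rintro ⟨y, hy⟩
      obtain ⟨i, rfl⟩ := Subgroup.mem_zpowers_iff.1 hy
      refine ⟨2, Subtype.ext (Subtype.ext ?_)⟩
      show (x ^ i) ^ (2 ^ 2) = 1
      rw [← zpow_natCast (x ^ i), ← zpow_mul, mul_comm, zpow_mul, zpow_natCast]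
      norm_num [h4]
    obtain ⟨S, hS⟩ := hp.exists_le_sylow
    have hcard : Nat.card S = 4 := by
      rw [Sylow.card_eq_multiplicity, card_normalizer h hm hg,
        Nat.factorization_mul (by norm_num) Nat.card_pos.ne']
      have hodd : ¬ 2 ∣ Nat.card (cen g) := fun hd => by
        have := Nat.eq_one_of_dvd_coprimes (card_arith h hm).2.1
          (hd.trans (torus_card_dvd h hm hg)) (show 2 ∣ 4 by norm_num)
        omega
      have e4 : (4 : ℕ).factorization 2 = 2 := by
        rw [show (4 : ℕ) = 2 ^ 2 from rfl, Nat.Prime.factorization_pow Nat.prime_two, Finsupp.single_eq_same]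
      rw [Finsupp.coe_add, Pi.add_apply, Nat.factorization_eq_zero_of_not_dvd hodd, e4, add_zero]
      norm_num
    set T := (S : Subgroup (nor g)).map (nor g).subtype with hT
    have hT4 : ∀ d ∈ T, d ^ 4 = 1 := by
      rintro _ ⟨d, hd, rfl⟩
      have h0 : (⟨d, hd⟩ : (S : Subgroup (nor g))) ^ 4 = 1 :=
        orderOf_dvd_iff_pow_eq_one.1 ((orderOf_dvd_natCard _).trans (dvd_of_eq hcard))
      simpa using congrArg (fun z : (S : Subgroup (nor g)) => ((z : nor g) : Cfsg.Sz F m)) h0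
    have hxT : x ∈ T := ⟨⟨x, hx⟩, hS (Subgroup.mem_zpowers _), rfl⟩
    have hle : T ≤ D := fun d hd => Subgroup.mem_inf.2 ⟨Subgroup.map_subtype_le _ hd,
      fix_of_exponent_four h hm T hT4 hxT hx1 ⟨none, rfl⟩ hxf d hd⟩
    refine le_trans hcard.ge (le_trans (le_of_eq ?_) (Subgroup.card_le_of_le hle))
    rw [hT, Subgroup.card_map_of_injective (Subgroup.subtype_injective _)]

theorem cen_unique {x y g g' : Cfsg.Sz F m} (hx1 : x ≠ 1) (hxf : x • ∞' = ∞') (hy : y • ∞' ≠ ∞')
    (hg : InE g) (hg' : InE g') (xg : x ∈ nor g) (xg' : x ∈ nor g') (yg : y ∈ nor g) (yg' : y ∈ nor g') :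
    cen g = cen g' := by
  by_contra hne
  refine hy (fix_of_exponent_four h hm (nor g ⊓ nor g') (fun d hd => ?_) (Subgroup.mem_inf.2 ⟨xg, xg'⟩) hx1
    ⟨none, rfl⟩ hxf y (Subgroup.mem_inf.2 ⟨yg, yg'⟩))
  obtain ⟨d1, d2⟩ := Subgroup.mem_inf.1 hd
  by_contra h4
  exact hne ((torus_eq h hm hg (pow_four_mem_cen h hm hg d1) h4).symm.trans
    (torus_eq h hm hg' (pow_four_mem_cen h hm hg' d2) h4))

theorem card_We {x : Cfsg.Sz F m} (h4 : x ^ 4 = 1) (hx1 : x ≠ 1) (hxf : x • ∞' = ∞') :
    Nat.card (We x) = 4 * Nat.card (E x) := by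
  classical
  haveI : Fintype (Cfsg.Sz F m) := Fintype.ofFinite _
  let Ef : Finset (Cfsg.Sz F m) := Finset.univ.filter fun c => c ∈ E x
  let Wf : Finset (Cfsg.Sz F m) := Finset.univ.filter fun y => y ∈ We x
  let T : Finset (Subgroup (Cfsg.Sz F m)) := Ef.image cen
  let Cof : Cfsg.Sz F m → Subgroup (Cfsg.Sz F m) := fun y =>
    if hy : y ∈ We x then cen hy.2.choose else ⊥
  have hCof : ∀ y, y ∈ We x → ∀ g, InE g → x ∈ nor g → y ∈ nor g → Cof y = cen g := fun y hy g hg xg yg => by
    simp only [Cof, dif_pos hy]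
    obtain ⟨i1, i2, i3⟩ := hy.2.choose_spec
    exact cen_unique h hm hx1 hxf hy.1 i1 hg i2 xg i3 yg
  have hE : Ef.card = ∑ C ∈ T, (Ef.filter fun c => cen c = C).card :=
    Finset.card_eq_sum_card_fiberwise fun c hc => Finset.mem_image_of_mem _ hc
  have hW : Wf.card = ∑ C ∈ T, (Wf.filter fun y => Cof y = C).card := by
    refine Finset.card_eq_sum_card_fiberwise fun y hy => ?_
    obtain ⟨g, hg, xg, yg⟩ := (Finset.mem_filter.1 hy).2.2
    exact Finset.mem_image.2 ⟨g, Finset.mem_filter.2 ⟨Finset.mem_univ _, hg, xg⟩,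
      (hCof y (Finset.mem_filter.1 hy).2 g hg xg yg).symm⟩
  have hfib : ∀ C ∈ T, (Wf.filter fun y => Cof y = C).card = 4 * (Ef.filter fun c => cen c = C).card := by
    intro C hC
    obtain ⟨g, hgE, rfl⟩ := Finset.mem_image.1 hC
    obtain ⟨hg, xg⟩ := (Finset.mem_filter.1 hgE).2
    have e1 : (Ef.filter fun c => cen c = cen g) = (Finset.univ.filter fun c => c ∈ cen g).erase 1 := by
      ext c
      simp only [Ef, Finset.mem_filter, Finset.mem_univ, true_and, Finset.mem_erase]
      constructor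
      · rintro ⟨⟨hc, -⟩, e⟩
        exact ⟨hc.1, e ▸ mem_centralizer_iff'.2 rfl⟩
      · rintro ⟨hc1, hc⟩
        have e : cen c = cen g := torus_eq h hm hg hc hc1
        exact ⟨⟨torus_inE h hm hg hc hc1, by rw [nor, e]; exact xg⟩, e⟩
    have e2 : (Wf.filter fun y => Cof y = cen g) =
        (Finset.univ.filter fun y => y ∈ nor g) \
          (Finset.univ.filter fun y => y ∈ nor g ⊓ MulAction.stabilizer (Cfsg.Sz F m) ∞') := by
      ext y
      simp only [Wf, Finset.mem_filter, Finset.mem_univ, true_and, Finset.mem_sdiff, Subgroup.mem_inf, not_and,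
        MulAction.mem_stabilizer_iff]
      constructor
      · rintro ⟨hy, e⟩
        obtain ⟨g', hg', xg', yg'⟩ := hy.2
        have e' : cen g = cen g' := e.symm.trans (hCof y hy g' hg' xg' yg')
        refine ⟨?_, fun _ => hy.1⟩
        rw [nor, e']
        exact yg'
      · rintro ⟨yg, hy1⟩
        have hy : y ∈ We x := ⟨hy1 yg, g, hg, xg, yg⟩
        exact ⟨hy, hCof y hy g hg xg yg⟩
    have c0 : (Finset.univ.filter fun c => c ∈ cen g).card = Nat.card (cen g) := by
      rw [Nat.card_eq_fintype_card, Fintype.card_subtype]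
    have c1 : (Finset.univ.filter fun y => y ∈ nor g).card = 4 * Nat.card (cen g) := by
      rw [← card_normalizer h hm hg, Nat.card_eq_fintype_card, Fintype.card_subtype]
    have c2 : (Finset.univ.filter fun y => y ∈ nor g ⊓ MulAction.stabilizer (Cfsg.Sz F m) ∞').card = 4 := by
      refine Eq.trans ?_ (card_nor_stab h hm h4 hx1 hxf hg xg)
      rw [Nat.card_eq_fintype_card, Fintype.card_subtype]
    rw [e1, e2, Finset.card_erase_of_mem (by simp), Finset.card_sdiff_of_subset (fun y hy => by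
      simp only [Finset.mem_filter, Finset.mem_univ, true_and, Subgroup.mem_inf] at hy ⊢
      exact hy.1), c0, c1, c2]
    omega
  have e1 : Nat.card (We x) = Wf.card := by
    rw [Nat.card_eq_fintype_card, ← Set.toFinset_card]
    congr 1; ext y; simp [Wf]
  have e2 : Nat.card (E x) = Ef.card := by
    rw [Nat.card_eq_fintype_card, ← Set.toFinset_card]
    congr 1; ext y; simp [Ef]
  rw [e1, e2, hW, hE, Finset.mul_sum]
  exact Finset.sum_congr rfl hfib

/-- An involution normalising a torus inverts it. -/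
theorem inverts {z g : Cfsg.Sz F m} (hz : z ^ 2 = 1) (hz1 : z ≠ 1) (hg : InE g) (hn : z ∈ nor g) :
    z * g * z = g⁻¹ := by
  have hzz : z * z = 1 := by rw [← sq, hz]
  have hzi : z⁻¹ = z := inv_eq_of_mul_eq_one_right hzz
  have hgg : g ∈ cen g := mem_centralizer_iff'.2 rfl
  have hc := (Subgroup.mem_normalizer_iff.1 hn g).1 hgg
  rw [hzi] at hc
  have hcomm : g * (z * g * z) = z * g * z * g := mem_centralizer_iff'.1 hc
  set w := z * g * z * g with hw
  have hwz : z * w = w * z := by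
    rw [hw]
    calc z * (z * g * z * g) = z * z * (g * (z * g)) := by simp only [mul_assoc]
      _ = g * (z * g) := by rw [hzz, one_mul]
      _ = g * (z * g * z) * z := by
          simp only [mul_assoc]; rw [hzz, mul_one]
      _ = z * g * z * g * z := by rw [hcomm]
  by_cases hw1 : w = 1
  · exact eq_inv_of_mul_eq_one_left hw1
  · exfalso
    refine not_fix_of_inE h hm (torus_inE h hm hg (mul_mem hc hgg) hw1) ?_
    exact fix_of_commute h hm (exists_fix_of_four h hm
      (show z ^ 4 = 1 by simp [pow_succ, mul_assoc, hzz]) hz1) hz1 hwz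

theorem mem_nor_of_inverts {z g : Cfsg.Sz F m} (hz : z ^ 2 = 1) (hg : InE g) (hi : z * g * z = g⁻¹) :
    z ∈ nor g := by
  have hzi : z⁻¹ = z := inv_eq_of_mul_eq_one_right (by rw [← sq, hz])
  refine ti_of_centralizer (cen g) (fun c hc hc1 => torus_eq h hm hg hc hc1) z g
    (mem_centralizer_iff'.2 rfl) hg.1 ?_
  rw [hzi, hi]
  exact inv_mem (mem_centralizer_iff'.2 rfl)

theorem card_E_involution {z : Cfsg.Sz F m} (hz : z ^ 2 = 1) (hz1 : z ≠ 1) :
    Nat.card (E z) = Nat.card {s : Cfsg.Sz F m // s ^ 2 = 1 ∧ InE (z * s)} := by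
  have hzz : z * z = 1 := by rw [← sq, hz]
  have hzi : z⁻¹ = z := inv_eq_of_mul_eq_one_right hzz
  refine Nat.card_congr ((Equiv.mulLeft z).subtypeEquiv fun c => ?_)
  show c ∈ E z ↔ (z * c) ^ 2 = 1 ∧ InE (z * (z * c))
  rw [← mul_assoc z z, hzz, one_mul, sq]
  constructor
  · rintro ⟨hc, hn⟩
    refine ⟨?_, hc⟩
    rw [← mul_assoc, inverts h hm hz hz1 hc hn, inv_mul_cancel]
  · rintro ⟨h1, hc⟩
    exact ⟨hc, mem_nor_of_inverts h hm hz hc (eq_inv_of_mul_eq_one_left (by rw [← h1]; group))⟩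

end Cfsg.Agent.Lib.SzSolubilizer
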